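import Cfsg.Agent.Lib.SpFourRes.Transv.Three

/-!
No two proportional transvection vectors: the values lie in a proper subfield, or some three-space is full over `F`.

* `comp`, `values_or_generating_pair`, `false_of_all_conic`
-/

set_option autoImplicit false
set_option linter.unusedSectionVars false

namespace Cfsg.Agent.SpFourRes.Transv

open Matrix

variable {F : Type*} [Field F] [CharP F 2] {G : Subgroup (GL (Fin 2 ⊕ Fin 2) F)}

/-- The component orthogonal to `a` and `b`. -/
noncomputable def comp (a b x : Vec F) : Vec F := x + (sf x b / sf a b) • a + (sf x a / sf a b) • b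

lemma comp_orth {a b : Vec F} (hab : sf a b ≠ 0) (x : Vec F) : sf a (comp a b x) = 0 ∧ sf b (comp a b x) = 0 := by
  constructor
  · simp only [comp, sf_add_right, sf_smul_right, sf_self, mul_zero, add_zero, div_mul_cancel₀ _ hab,
      sf_comm a x]
    exact add_self _
  · simp only [comp, sf_add_right, sf_smul_right, sf_self, mul_zero, add_zero, sf_comm b a,
      div_mul_cancel₀ _ hab, sf_comm b x]
    exact add_self _

lemma eq_comp_add {a b : Vec F} (x : Vec F) :
    x = (sf x b / sf a b) • a + (sf x a / sf a b) • b + comp a b x := by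
  ext i
  simp only [comp, Pi.add_apply, Pi.smul_apply, smul_eq_mul]
  linear_combination -((sf x b / sf a b) * a i + (sf x a / sf a b) * b i) * (two_zero (F := F))

lemma mem_span_comp {a b : Vec F} (x : Vec F) : x ∈ Submodule.span F ({a, b, comp a b x} : Set (Vec F)) := by
  have h : (sf x b / sf a b) • a + (sf x a / sf a b) • b + comp a b x ∈
      Submodule.span F ({a, b, comp a b x} : Set (Vec F)) :=
    add_mem (add_mem (Submodule.smul_mem _ _ (Submodule.subset_span (by simp)))
    (Submodule.smul_mem _ _ (Submodule.subset_span (by simp)))) (Submodule.subset_span (by simp))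
  rwa [← eq_comp_add] at h

lemma sf_decomp {a b : Vec F} (hab : sf a b ≠ 0) (x y : Vec F) :
    sf x y = br (proj a b x) (proj a b y) + sf (comp a b x) (comp a b y) := by
  obtain ⟨h1, h2⟩ := comp_orth hab x
  obtain ⟨h3, h4⟩ := comp_orth hab y
  conv_lhs => rw [eq_comp_add (a := a) (b := b) x, eq_comp_add (a := a) (b := b) y]
  simp [sf_add_left, sf_add_right, sf_smul_left, sf_smul_right, sf_self, h3, h4, sf_comm (comp a b x) a,
    sf_comm (comp a b x) b, h1, h2, sf_comm b a, proj, br]
  field_simp
  ring

lemma comp_step {a b : Vec F} (u w : Vec F) (c : F) : comp a b (w + c • u) = comp a b w + c • comp a b u := by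
  simp only [comp, sf_add_left, sf_smul_left, add_div, mul_div_assoc, add_smul, smul_add, smul_smul]
  abel

lemma comp_a {a b : Vec F} (hab : sf a b ≠ 0) : comp a b a = 0 := by
  simp [comp, sf_self, hab, vec_add_self]

lemma comp_b {a b : Vec F} (hab : sf a b ≠ 0) : comp a b b = 0 := by
  simp only [comp, sf_self, zero_div, zero_smul, add_zero, sf_comm b a, div_self hab, one_smul]
  exact vec_add_self b

variable [Fintype F]

/-- All values in a proper subfield, or one value generates `F`. -/
theorem values_or_generating_pair (H : Gen G) :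
    (∃ K : Subfield F, K ≠ ⊤ ∧ ∀ u ∈ tvecs G, ∀ v ∈ tvecs G, sf u v ∈ K) ∨
    ∃ a ∈ tvecs G, ∃ b ∈ tvecs G, sf a b ≠ 0 ∧ Subfield.closure {sf a b} = ⊤ := by
  classical
  set T := tvecs G with hT
  have hfin : {p : Vec F × Vec F | p.1 ∈ T ∧ p.2 ∈ T ∧ sf p.1 p.2 ≠ 0}.Finite := Set.toFinite _
  have hne : {p : Vec F × Vec F | p.1 ∈ T ∧ p.2 ∈ T ∧ sf p.1 p.2 ≠ 0}.Nonempty := by
    obtain ⟨u, hu⟩ := H.tvecs_nonempty
    obtain ⟨w, hw, h⟩ := H.neighbour hu
    exact ⟨(u, w), hu, hw, h⟩
  obtain ⟨⟨a, b⟩, ⟨ha, hb, hab⟩, hmax⟩ :=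
    hfin.exists_maximalFor (fun p => Nat.card (Subfield.closure {sf p.1 p.2})) _ hne
  dsimp only at ha hb hab hmax
  set M := Subfield.closure {sf a b} with hM
  by_cases hMT : M = ⊤
  · exact Or.inr ⟨a, ha, b, hb, hab, hMT⟩
  refine Or.inl ⟨M, hMT, ?_⟩
  -- a pair with values generating `M` has all its values in `M`
  have key : ∀ u ∈ T, ∀ v ∈ T, sf u v ≠ 0 → Subfield.closure {sf u v} = M → ∀ w ∈ T, sf u w ∈ M := by
    intro u hu v hv huv hM' w hw
    have hG := good_three huv (comp_orth huv w).1 (comp_orth huv w).2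
    obtain ⟨u', hu', v', hv', h⟩ := exists_values H hG hu hv
    have hle : M ≤ Subfield.closure {sf u' v'} := by
      rw [← hM', Subfield.closure_le, Set.singleton_subset_iff]
      exact h u hu hG.mem_a v hv hG.mem_b
    have heq : M = Subfield.closure {sf u' v'} := by
      refine SetLike.ext' (Set.eq_of_subset_of_ncard_le hle ?_ (Set.toFinite _))
      rw [← Nat.card_coe_set_eq, ← Nat.card_coe_set_eq]
      rcases eq_or_ne (sf u' v') 0 with h0 | h0
      · refine Nat.card_le_card_of_injective (fun x => ⟨x.1, ?_⟩)
          fun x y e => Subtype.ext (congrArg (fun z : M => (z : F)) e)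
        have hx := x.2
        have : Subfield.closure ({0} : Set F) ≤ M := Subfield.closure_le.2 (by simp [zero_mem])
        exact this (h0 ▸ hx)
      · rcases le_total (Nat.card (Subfield.closure {sf u' v'})) (Nat.card M) with hc | hc
        · exact hc
        · exact hmax (j := (u', v')) ⟨hu', hv', h0⟩ hc
    rw [heq]
    exact h u hu hG.mem_a w hw (mem_span_comp w)
  let UM : Set (Vec F) := {u | u ∈ T ∧ ∃ v ∈ T, sf u v ≠ 0 ∧ Subfield.closure {sf u v} = M}
  have hstep : ∀ w ∈ T, ∀ u ∈ UM, u + sf u w • w ∈ UM := by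
    rintro w hw u ⟨hu, v, hv, h1, h2⟩
    have e : sf (u + sf u w • w) (v + sf v w • w) = sf u v := by
      rw [← tg_apply, ← tg_apply, sp_sf (tg_mem_sp w)]
    exact ⟨H.step hw hu, _, H.step hw hv, by rw [e]; exact h1, by rw [e]; exact h2⟩
  have htop : Submodule.span F UM = ⊤ := by
    refine (H.invariant _ fun w hw x hx => ?_).resolve_left fun h => ?_
    · induction hx using Submodule.span_induction with
      | mem u hu => exact Submodule.subset_span (hstep w hw u hu)
      | zero => simp [sf_zero_left]
      | add x y _ _ h1 h2 =>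
        rw [sf_add_left, add_smul, add_add_add_comm]
        exact add_mem h1 h2
      | smul c x _ h1 =>
        rw [sf_smul_left, ← smul_smul, ← smul_add]
        exact Submodule.smul_mem _ c h1
    · have : a ∈ Submodule.span F UM := Submodule.subset_span ⟨ha, b, hb, hab, rfl⟩
      rw [h] at this
      exact ha.1 (by simpa using this)
  intro x hx y hy
  obtain ⟨u, ⟨hu, v, hv, huv, hM'⟩, hux⟩ : ∃ u ∈ UM, sf u x ≠ 0 := by
    by_contra h
    push Not at h
    obtain ⟨z, hz⟩ := exists_sf_ne hx.1
    have hle : Submodule.span F UM ≤ orth {x} := Submodule.span_le.2 fun u hu w hw => by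
      rw [Set.mem_singleton_iff.1 hw]; exact h u hu
    exact hz (hle (htop ▸ Submodule.mem_top) x rfl)
  obtain ⟨hu₂, v₂, hv₂, hne₂, hM₂⟩ := hstep x hx u ⟨hu, v, hv, huv, hM'⟩
  have h1 := key u hu v hv huv hM' x hx
  have h2 := key u hu v hv huv hM' y hy
  have h3 := key _ hu₂ v₂ hv₂ hne₂ hM₂ y hy
  rw [sf_add_left, sf_smul_left] at h3
  have h4 : sf u x * sf x y ∈ M := by
    have := sub_mem h3 h2
    rwa [add_sub_cancel_left] at this
  have := div_mem h4 h1
  rwa [mul_div_cancel_left₀ _ hux] at this

/-- Not every vector projects to the conic of a generating pair. -/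
theorem false_of_all_conic (hq : 4 ≤ Fintype.card F) (H : Gen G) {a b : Vec F} (ha : a ∈ tvecs G)
    (hb : b ∈ tvecs G) (hab : sf a b ≠ 0) (hgen : Subfield.closure {sf a b} = (⊤ : Subfield F))
    (hc : ∀ u ∈ tvecs G, proj a b u ≠ 0 → qab (sf a b) (proj a b u) = 1) : False := by
  set τ := sf a b with hτ
  have hτ1 : τ ≠ 1 := by
    intro h
    have hbot : Subfield.closure {(1 : F)} = ⊥ := le_antisymm
      (Subfield.closure_le.2 fun x hx => by rw [hx]; exact one_mem _) bot_le
    rw [h, hbot] at hgen
    have h1 : Nat.card (⊥ : Subfield F) = 2 := Subfield.card_bot F 2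
    rw [hgen] at h1
    rw [← Nat.card_eq_fintype_card, ← Nat.card_congr (Subfield.topEquiv (K := F)).toEquiv, h1] at hq
    omega
  have hτ2 : τ ^ 2 ≠ 1 := fun h => hτ1 (sq_inj (by rw [h, one_pow]))
  have qadd : ∀ (c : F) (p s : Fin 2 → F),
      qab τ (s + c • p) = qab τ s + c ^ 2 * qab τ p + c * br s p := by
    intro c p s
    simp only [qab, br, Pi.add_apply, Pi.smul_apply, smul_eq_mul]
    rw [CharTwo.add_sq, CharTwo.add_sq]
    ring
  -- the components of two vectors off the orthogonal plane are perpendicular
  have hperp : ∀ y ∈ tvecs G, ∀ z ∈ tvecs G, proj a b y ≠ 0 → proj a b z ≠ 0 →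
      sf (comp a b z) (comp a b y) = 0 := by
    intro y hy z hz hy0 hz0
    by_contra hδ
    set δ := sf (comp a b z) (comp a b y) with hδ'
    set p := proj a b y with hp
    have hp1 : qab τ p = 1 := hc y hy hy0
    -- each vector with the same component
    have key : ∀ w ∈ tvecs G, comp a b w = comp a b z → proj a b w ≠ 0 →
        br (proj a b w) p = δ ∨ (proj a b w = p ∧ δ = 1) := by
      intro w hw hwz hw0
      have hs := H.step hy hw
      have hcw : sf w y = br (proj a b w) p + δ := by rw [sf_decomp hab w y, hwz]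
      have hproj : proj a b (w + sf w y • y) = proj a b w + sf w y • p := by rw [map_add, map_smul]
      have hq1 := hc w hw hw0
      by_cases hv0 : proj a b (w + sf w y • y) = 0
      · rw [hproj] at hv0
        have e : proj a b w = sf w y • p := funext fun i => CharTwo.add_eq_zero.1 (congrFun hv0 i)
        have hz1 : sf w y = 1 := by
          refine sq_inj ?_
          rw [e] at hq1
          have : qab τ (sf w y • p) = sf w y ^ 2 * qab τ p := by
            simp only [qab, Pi.smul_apply, smul_eq_mul]; ring
          rw [this, hp1, mul_one] at hq1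
          rw [hq1, one_pow]
        rw [hz1, one_smul] at e
        refine Or.inr ⟨e, ?_⟩
        rw [hcw, e, br_self, zero_add] at hz1
        exact hz1
      · have h1 := hc _ hs hv0
        rw [hproj, qadd, hq1, hp1] at h1
        have h2 : sf w y * δ = 0 := by
          linear_combination h1 + (sf w y) * hcw + (sf w y * δ - sf w y ^ 2) * (two_zero (F := F))
        rw [(mul_eq_zero.1 h2).resolve_right hδ] at hcw
        exact Or.inl (CharTwo.add_eq_zero.1 hcw.symm)
    -- three distinct such projections sum to zero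
    have three : ∀ w₁ ∈ tvecs G, ∀ w₂ ∈ tvecs G, ∀ w₃ ∈ tvecs G, comp a b w₁ = comp a b z →
        comp a b w₂ = comp a b z → comp a b w₃ = comp a b z → proj a b w₁ ≠ 0 → proj a b w₂ ≠ 0 →
        proj a b w₃ ≠ 0 → proj a b w₁ ≠ proj a b w₂ → proj a b w₁ ≠ proj a b w₃ →
        proj a b w₂ ≠ proj a b w₃ → proj a b w₁ + proj a b w₂ + proj a b w₃ = 0 := by
      intro w₁ hw₁ w₂ hw₂ w₃ hw₃ e1 e2 e3 z1 z2 z3 n12 n13 n23
      have line : ∀ s t : Fin 2 → F, br s p = δ → br t p = δ → qab τ s = 1 → qab τ t = 1 → s ≠ t →
          t = s + δ • p := by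
        intro s t hs ht hs1 ht1 hne
        obtain ⟨i, hi⟩ : ∃ i, p i ≠ 0 := by
          by_contra h; push Not at h; exact hy0 (funext h)
        have hz : br (s + t) p = 0 := by
          rw [show br (s + t) p = br s p + br t p by simp [br]; ring, hs, ht]; exact add_self _
        obtain ⟨c, hce⟩ : ∃ c : F, s + t = c • p := by
          refine ⟨(s + t) i / p i, funext fun j => ?_⟩
          have h01 : (s + t) 0 * p 1 = (s + t) 1 * p 0 := by
            simp only [br] at hz
            exact CharTwo.add_eq_zero.1 hz
          simp only [Pi.smul_apply, smul_eq_mul]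
          rw [div_mul_eq_mul_div, eq_div_iff hi]
          fin_cases i <;> fin_cases j <;> first | rfl | exact h01 | exact h01.symm
        have ht' : t = s + c • p := by rw [← hce, ← add_assoc, show s + s = 0 from funext fun j => add_self _,
          zero_add]
        have := ht1
        rw [ht', qadd, hs1, hp1, hs] at this
        have h0 : c * (c + δ) = 0 := by linear_combination this
        rcases mul_eq_zero.1 h0 with h | h
        · exact absurd (by rw [ht', h, zero_smul, add_zero] : t = s).symm hne
        · rw [ht', CharTwo.add_eq_zero.1 h]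
      have hsum : ∀ s t u : Fin 2 → F, br s p = δ → br t p = δ → qab τ s = 1 → qab τ t = 1 → s ≠ t →
          u = p → δ = 1 → s + t + u = 0 := by
        intro s t u hs ht hs1 ht1 hne hu hδ1
        rw [line s t hs ht hs1 ht1 hne, hu, hδ1, one_smul]
        ext i; simp only [Pi.add_apply, Pi.zero_apply]; linear_combination (s i + p i) * (two_zero (F := F))
      have q1 := hc _ hw₁ z1
      have q2 := hc _ hw₂ z2
      have q3 := hc _ hw₃ z3
      rcases key _ hw₁ e1 z1 with a1 | ⟨a1, d⟩
      · rcases key _ hw₂ e2 z2 with a2 | ⟨a2, d⟩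
        · rcases key _ hw₃ e3 z3 with a3 | ⟨a3, d⟩
          · exact absurd ((line _ _ a1 a2 q1 q2 n12).trans (line _ _ a1 a3 q1 q3 n13).symm) n23
          · exact hsum _ _ _ a1 a2 q1 q2 n12 a3 d
        · rcases key _ hw₃ e3 z3 with a3 | ⟨a3, -⟩
          · rw [add_right_comm]; exact hsum _ _ _ a1 a3 q1 q3 n13 a2 d
          · exact absurd (a2.trans a3.symm) n23
      · rcases key _ hw₂ e2 z2 with a2 | ⟨a2, -⟩
        · rcases key _ hw₃ e3 z3 with a3 | ⟨a3, -⟩
          · rw [show proj a b w₁ + proj a b w₂ + proj a b w₃ = proj a b w₂ + proj a b w₃ + proj a b w₁ by abel]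
            exact hsum _ _ _ a2 a3 q2 q3 n23 a1 d
          · exact absurd (a1.trans a3.symm) n13
        · exact absurd (a1.trans a2.symm) n12
    -- translates of `z`
    have hstA : ∀ w ∈ tvecs G, comp a b w = comp a b z → ∃ w' ∈ tvecs G, comp a b w' = comp a b z ∧
        proj a b w' = ![proj a b w 0 + proj a b w 1, proj a b w 1] := by
      intro w hw he
      refine ⟨_, H.step ha hw, by rw [comp_step, comp_a hab, smul_zero, add_zero, he], ?_⟩
      rw [map_add, map_smul, proj_a hab]
      ext i; fin_cases i <;> simp [proj]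
    have hstB : ∀ w ∈ tvecs G, comp a b w = comp a b z → ∃ w' ∈ tvecs G, comp a b w' = comp a b z ∧
        proj a b w' = ![proj a b w 0, proj a b w 1 + proj a b w 0 * τ ^ 2] := by
      intro w hw he
      refine ⟨_, H.step hb hw, by rw [comp_step, comp_b hab, smul_zero, add_zero, he], ?_⟩
      rw [map_add, map_smul, proj_b]
      ext i; fin_cases i <;> simp [proj, hτ]
      field_simp
    obtain ⟨za, hza, hca, hpa⟩ := hstA z hz rfl
    obtain ⟨zb, hzb, hcb, hpb⟩ := hstB z hz rfl
    set x := proj a b z 0 with hx
    set y' := proj a b z 1 with hy'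
    have hnz : ∀ {w : Vec F} {u v : F}, proj a b w = ![u, v] → u ≠ 0 ∨ v ≠ 0 → proj a b w ≠ 0 := by
      intro w u v e h h0
      rw [e] at h0
      exact h.elim (fun h => h (by simpa using congrFun h0 0)) (fun h => h (by simpa using congrFun h0 1))
    have hzp : proj a b z = ![x, y'] := by ext i; fin_cases i <;> rfl
    have hconic := hc z hz hz0
    rw [hzp] at hconic
    by_cases hy1 : y' = 0
    · have hx1 : x = 1 := sq_inj (by simpa [qab, hy1] using hconic)
      obtain ⟨zc, hzc, hcc, hpc⟩ := hstA zb hzb hcb
      rw [hpb, hx1, hy1] at hpc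
      simp only [Matrix.cons_val_zero, Matrix.cons_val_one, zero_add, one_mul] at hpc
      rw [hy1, hx1, zero_add, one_mul] at hpb
      rw [hx1, hy1] at hzp
      have := three z hz zb hzb zc hzc rfl hcb hcc hz0 (hnz hpb (Or.inl one_ne_zero))
        (hnz hpc (Or.inr (pow_ne_zero 2 hab))) (by rw [hzp, hpb]; exact fun e => pow_ne_zero 2 hab (by simpa using (congrFun e 1).symm))
        (by rw [hzp, hpc]; exact fun e => pow_ne_zero 2 hab (by simpa using (congrFun e 1).symm))
        (by rw [hpb, hpc]; exact fun e => pow_ne_zero 2 hab (by simpa using congrFun e 0))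
      rw [hzp, hpb, hpc] at this
      have h0 := congrFun this 0
      simp at h0
      exact hτ2 (CharTwo.add_eq_zero.1 (by linear_combination h0 - (two_zero (F := F))))
    by_cases hx1 : x = 0
    · have hyτ : y' = τ := by
        refine sq_inj ?_
        simp [qab, hx1] at hconic
        field_simp at hconic
        exact hconic
      obtain ⟨zc, hzc, hcc, hpc⟩ := hstB za hza hca
      rw [hpa, hx1, hyτ] at hpc
      simp only [Matrix.cons_val_zero, Matrix.cons_val_one, zero_add] at hpc
      rw [hx1, hyτ, zero_add] at hpa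
      rw [hx1, hyτ] at hzp
      have := three z hz za hza zc hzc rfl hca hcc hz0 (hnz hpa (Or.inl hab))
        (hnz hpc (Or.inl hab)) (by rw [hzp, hpa]; intro e; exact hab (by simpa using (congrFun e 0).symm))
        (by rw [hzp, hpc]; intro e; exact hab (by simpa using (congrFun e 0).symm))
        (by
          rw [hpa, hpc]; intro e
          have := congrFun e 1
          simp at this
          exact hab this)
      rw [hzp, hpa, hpc] at this
      have h1 := congrFun this 1
      simp at h1
      refine hτ2 (CharTwo.add_eq_zero.1 ?_)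
      have : τ * (τ ^ 2 + 1) = 0 := by linear_combination h1 - τ * (two_zero (F := F))
      exact (mul_eq_zero.1 this).resolve_left hab
    have := three z hz za hza zb hzb rfl hca hcb hz0 (hnz hpa (Or.inr hy1)) (hnz hpb (Or.inl hx1))
      (by rw [hzp, hpa]; intro e; exact hy1 (by simpa using (congrFun e 0).symm))
      (by
        rw [hzp, hpb]; intro e
        have h1 := congrFun e 1
        simp at h1
        rcases h1 with h1 | h1
        exacts [hx1 h1, hab h1])
      (by rw [hpa, hpb]; intro e; exact hy1 (by simpa using congrFun e 0))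
    rw [hzp, hpa, hpb] at this
    have h0 := congrFun this 0
    have h1 := congrFun this 1
    simp at h0 h1
    have hxy : x = y' := CharTwo.add_eq_zero.1 (by linear_combination h0 - x * (two_zero (F := F)))
    refine hτ2 (CharTwo.add_eq_zero.1 ?_)
    have : y' * (τ ^ 2 + 1) = 0 := by
      rw [hxy] at h1
      linear_combination h1 - y' * (two_zero (F := F))
    exact (mul_eq_zero.1 this).resolve_left hy1
  -- components in the orthogonal plane are perpendicular to the others
  set T := Submodule.span F {u | u ∈ tvecs G ∧ proj a b u ≠ 0} with hTdef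
  have hTorth : ∀ u ∈ tvecs G, proj a b u = 0 → ∀ x ∈ T, sf x u = 0 := by
    intro u hu hu0 x hx
    induction hx using Submodule.span_induction with
    | mem w hw =>
      obtain ⟨hwU, hw0⟩ := hw
      have h1 : sf w u = sf (comp a b w) (comp a b u) := by
        rw [sf_decomp hab w u, hu0]; simp [br]
      have hw' := H.step hu hwU
      have hp' : proj a b (w + sf w u • u) = proj a b w := by rw [map_add, map_smul, hu0, smul_zero, add_zero]
      have h2 := hperp w hwU _ hw' hw0 (hp' ▸ hw0)
      rw [comp_step, sf_add_left, sf_smul_left, sf_self, zero_add, sf_comm (comp a b u), ← h1] at h2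
      exact mul_self_eq_zero.1 h2
    | zero => exact sf_zero_left u
    | add x y _ _ h1 h2 => rw [sf_add_left, h1, h2, add_zero]
    | smul c x _ h1 => rw [sf_smul_left, h1, mul_zero]
  have hTtop : T = ⊤ := by
    refine (H.invariant T fun u hu x hx => ?_).resolve_left fun h => ?_
    · by_cases hu0 : proj a b u = 0
      · rw [hTorth u hu hu0 x hx, zero_smul, add_zero]; exact hx
      · exact add_mem hx (Submodule.smul_mem _ _ (Submodule.subset_span ⟨hu, hu0⟩))
    · have : a ∈ T := Submodule.subset_span ⟨ha, by
        rw [proj_a hab]; exact fun h => one_ne_zero (show (1 : F) = 0 by simpa using congrFun h 0)⟩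
      rw [h] at this
      exact ha.1 (by simpa using this)
  obtain ⟨u, ⟨hu, hu0⟩, hne⟩ : ∃ u, (u ∈ tvecs G ∧ proj a b u ≠ 0) ∧ comp a b u ≠ 0 := by
    by_contra h
    push Not at h
    have hle : T ≤ Submodule.span F ({a, b} : Set (Vec F)) := Submodule.span_le.2 fun u hu => by
      rw [eq_comp_add (a := a) (b := b) u, h u hu, add_zero]
      exact Submodule.mem_span_pair.2 ⟨_, _, rfl⟩
    rw [hTtop, top_le_iff] at hle
    have h1 : Module.finrank F (Submodule.span F ({a, b} : Set (Vec F))) ≤ 2 := by
      classical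
      refine (finrank_span_le_card ({a, b} : Set (Vec F))).trans ?_
      rw [Set.toFinset_insert, Set.toFinset_singleton]
      exact Finset.card_le_two
    rw [hle, finrank_top, Module.finrank_fintype_fun_eq_card] at h1
    simp at h1
  have hle : T ≤ orth {comp a b u} := Submodule.span_le.2 fun w hw y hy => by
    rw [Set.mem_singleton_iff.1 hy]
    obtain ⟨hwU, hw0⟩ := hw
    obtain ⟨h1, h2⟩ := comp_orth hab u
    nth_rw 1 [eq_comp_add (a := a) (b := b) w]
    rw [sf_add_left, sf_add_left, sf_smul_left, sf_smul_left, h1, h2, hperp u hu w hwU hu0 hw0]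
    simp
  obtain ⟨y, hy⟩ := exists_sf_ne hne
  exact hy (hle (hTtop ▸ Submodule.mem_top) _ rfl)

end Cfsg.Agent.SpFourRes.Transv
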