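import Cfsg.Agent.Lib.SpFourRes.Transv.Setting

/-!
Subgroups generated by transvections with form values in a subfield (piece of helper80).

* `rational_of_values` : such a subgroup is conjugate in `Sp₄(F)` into `GL₄(K)`
-/

set_option autoImplicit false

namespace Cfsg.Agent.SpFourRes.Transv

open Matrix

variable {F : Type*} [Field F] {G : Subgroup (GL (Fin 2 ⊕ Fin 2) F)}

/-- The `K`-span of the transvection vectors. -/
abbrev lat (K : Subfield F) (G : Subgroup (GL (Fin 2 ⊕ Fin 2) F)) : Submodule K (Vec F) :=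
  Submodule.span K (tvecs G)

lemma coe_smul_vec {K : Subfield F} (c : K) (x : Vec F) : c • x = (c : F) • x := rfl

lemma lat_value {K : Subfield F} (hK : ∀ u ∈ tvecs G, ∀ v ∈ tvecs G, sf u v ∈ K) {a b : Vec F}
    (ha : a ∈ lat K G) (hb : b ∈ lat K G) : sf a b ∈ K := by
  induction ha using Submodule.span_induction with
  | mem u hu =>
    induction hb using Submodule.span_induction with
    | mem v hv => exact hK u hu v hv
    | zero => rw [sf_zero_right]; exact zero_mem _
    | add x y _ _ h1 h2 => rw [sf_add_right]; exact add_mem h1 h2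
    | smul c x _ h1 => rw [coe_smul_vec, sf_smul_right]; exact mul_mem c.2 h1
  | zero => rw [sf_zero_left]; exact zero_mem _
  | add x y _ _ h1 h2 => rw [sf_add_left]; exact add_mem h1 h2
  | smul c x _ h1 => rw [coe_smul_vec, sf_smul_left]; exact mul_mem c.2 h1

lemma Gen.lat_invariant (H : Gen G) (K : Subfield F) {g : GL (Fin 2 ⊕ Fin 2) F} (hg : g ∈ G) {a : Vec F}
    (ha : a ∈ lat K G) : g.1 *ᵥ a ∈ lat K G := by
  induction ha using Submodule.span_induction with
  | mem u hu => exact Submodule.subset_span (H.image_mem hg hu)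
  | zero => rw [mulVec_zero]; exact zero_mem _
  | add x y _ _ h1 h2 => rw [mulVec_add]; exact add_mem h1 h2
  | smul c x _ h1 =>
    rw [coe_smul_vec, mulVec_smul]
    exact Submodule.smul_mem _ c h1

lemma smul_mem_lat {K : Subfield F} {c : F} (hc : c ∈ K) {a : Vec F} (ha : a ∈ lat K G) :
    c • a ∈ lat K G := Submodule.smul_mem _ (⟨c, hc⟩ : K) ha

lemma sf_single_right (y : Vec F) (j : Fin 2 ⊕ Fin 2) :
    sf y (Pi.single j 1) = ∑ i, y i * Matrix.J (Fin 2) F i j := by
  rw [show sf y (Pi.single j 1) = y ⬝ᵥ (Matrix.J (Fin 2) F *ᵥ Pi.single j 1) from rfl, mulVec_single_one]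
  rfl

/-- A symplectic basis in the lattice. -/
lemma Gen.exists_symp_basis [CharP F 2] (H : Gen G) {K : Subfield F}
    (hK : ∀ u ∈ tvecs G, ∀ v ∈ tvecs G, sf u v ∈ K) :
    ∃ b : Fin 2 ⊕ Fin 2 → Vec F, (∀ i, b i ∈ lat K G) ∧ ∀ i j, sf (b i) (b j) = Matrix.J (Fin 2) F i j := by
  classical
  obtain ⟨u, hu⟩ := H.tvecs_nonempty
  obtain ⟨w, hw, huw⟩ := H.neighbour hu
  set f₁ : Vec F := (sf u w)⁻¹ • w with hf₁
  have huL : u ∈ lat K G := Submodule.subset_span hu
  have hf₁L : f₁ ∈ lat K G := smul_mem_lat (inv_mem (hK u hu w hw)) (Submodule.subset_span hw)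
  have h11 : sf u f₁ = 1 := by rw [hf₁, sf_smul_right, inv_mul_cancel₀ huw]
  let pr : Vec F → Vec F := fun x => x + sf x f₁ • u + sf x u • f₁
  have hprL : ∀ x ∈ lat K G, pr x ∈ lat K G := fun x hx =>
    add_mem (add_mem hx (smul_mem_lat (lat_value hK hx hf₁L) huL)) (smul_mem_lat (lat_value hK hx huL) hf₁L)
  have hpr1 : ∀ x, sf (pr x) u = 0 := fun x => by
    show sf (x + sf x f₁ • u + sf x u • f₁) u = 0
    rw [sf_add_left, sf_add_left, sf_smul_left, sf_smul_left, sf_self, sf_comm f₁ u, h11, mul_zero, add_zero,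
      mul_one, CharTwo.add_self_eq_zero]
  have hpr2 : ∀ x, sf (pr x) f₁ = 0 := fun x => by
    show sf (x + sf x f₁ • u + sf x u • f₁) f₁ = 0
    rw [sf_add_left, sf_add_left, sf_smul_left, sf_smul_left, sf_self, h11, mul_zero, add_zero,
      mul_one, CharTwo.add_self_eq_zero]
  obtain ⟨u', hu', hne⟩ : ∃ x ∈ tvecs G, pr x ≠ 0 := by
    by_contra hno
    push Not at hno
    have hle : Submodule.span F (tvecs G) ≤ Submodule.span F ({u, f₁} : Set (Vec F)) := by
      refine Submodule.span_le.2 fun x hx => ?_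
      have h0 : x + sf x f₁ • u + sf x u • f₁ = 0 := hno x hx
      have hx' : x = sf x f₁ • u + sf x u • f₁ := by
        calc x = x + ((sf x f₁ • u + sf x u • f₁) + (sf x f₁ • u + sf x u • f₁)) := by
              rw [vec_add_self, add_zero]
          _ = (x + sf x f₁ • u + sf x u • f₁) + (sf x f₁ • u + sf x u • f₁) := by abel
          _ = _ := by rw [h0, zero_add]
      rw [SetLike.mem_coe, hx']
      exact add_mem (Submodule.smul_mem _ _ (Submodule.subset_span (by simp)))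
        (Submodule.smul_mem _ _ (Submodule.subset_span (by simp)))
    rw [H.span_tvecs, top_le_iff] at hle
    have h1 : Module.finrank F (Submodule.span F ({u, f₁} : Set (Vec F))) ≤ 2 := by
      have h2 := finrank_span_finset_le_card (R := F) ({u, f₁} : Finset (Vec F))
      rw [Finset.coe_insert, Finset.coe_singleton] at h2
      exact le_trans h2 Finset.card_le_two
    rw [hle, finrank_top, Module.finrank_fintype_fun_eq_card] at h1
    simp at h1
  set e₂ := pr u' with he₂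
  have he₂L : e₂ ∈ lat K G := hprL _ (Submodule.subset_span hu')
  obtain ⟨v, hv, hev⟩ := H.exists_ne hne
  set f₂ : Vec F := (sf e₂ v)⁻¹ • pr v with hf₂
  have hvL : v ∈ lat K G := Submodule.subset_span hv
  have hf₂L : f₂ ∈ lat K G := smul_mem_lat (inv_mem (lat_value hK he₂L hvL)) (hprL v hvL)
  have hepv : sf e₂ (pr v) = sf e₂ v := by
    show sf e₂ (v + sf v f₁ • u + sf v u • f₁) = sf e₂ v
    rw [sf_add_right, sf_add_right, sf_smul_right (sf v f₁) e₂ u, sf_smul_right (sf v u) e₂ f₁,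
      show sf e₂ u = 0 from hpr1 _, show sf e₂ f₁ = 0 from hpr2 _, mul_zero, mul_zero,
      add_zero, add_zero]
  have h22 : sf e₂ f₂ = 1 := by rw [hf₂, sf_smul_right, hepv, inv_mul_cancel₀ hev]
  have he2u : sf e₂ u = 0 := hpr1 _
  have he2f : sf e₂ f₁ = 0 := hpr2 _
  have hf2u : sf f₂ u = 0 := by rw [hf₂, sf_smul_left, hpr1, mul_zero]
  have hf2f : sf f₂ f₁ = 0 := by rw [hf₂, sf_smul_left, hpr2, mul_zero]
  refine ⟨Sum.elim ![u, e₂] ![f₁, f₂], ?_, ?_⟩
  · rintro (i | i) <;> fin_cases i <;> simpa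
  · rintro (i | i) (j | j) <;> fin_cases i <;> fin_cases j <;>
      simp [Matrix.J, sf_self, h11, h22, he2u, he2f, hf2u, hf2f, sf_comm f₁ u, sf_comm f₂ e₂, sf_comm u e₂,
        sf_comm f₁ e₂, sf_comm u f₂, sf_comm f₁ f₂, CharTwo.neg_eq]

/-- **Form values in a subfield make the group rational over it.** -/
theorem rational_of_values [CharP F 2] (H : Gen G) (K : Subfield F)
    (hK : ∀ u ∈ tvecs G, ∀ v ∈ tvecs G, sf u v ∈ K) :
    ∃ B ∈ Cfsg.spGL 2 F, ∀ g ∈ G, ∀ i j, (B * g * B⁻¹).1 i j ∈ K := by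
  obtain ⟨b, hbL, hb⟩ := H.exists_symp_basis hK
  set C : Matrix (Fin 2 ⊕ Fin 2) (Fin 2 ⊕ Fin 2) F := Matrix.of fun i j => b j i with hC
  have hentry : Cᵀ * Matrix.J (Fin 2) F * C = Matrix.J (Fin 2) F := by
    ext i j
    rw [Matrix.mul_assoc, ← hb]
    rfl
  have hiso : ∀ x y, sf (C *ᵥ x) (C *ᵥ y) = sf x y := fun x y => by
    show (C *ᵥ x) ⬝ᵥ (Matrix.J (Fin 2) F *ᵥ (C *ᵥ y)) = x ⬝ᵥ (Matrix.J (Fin 2) F *ᵥ y)
    conv_rhs => rw [← hentry]
    rw [← mulVec_mulVec, ← mulVec_mulVec, dotProduct_mulVec x Cᵀ, vecMul_transpose]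
  have hunit : IsUnit C := by
    refine Matrix.mulVec_injective_iff_isUnit.1 fun x y hxy => ?_
    by_contra hne
    obtain ⟨z, hz⟩ := exists_sf_ne (sub_ne_zero.2 hne)
    refine hz ?_
    rw [← hiso, mulVec_sub, hxy, sub_self, sf_zero_right]
  set Cg : GL (Fin 2 ⊕ Fin 2) F := hunit.unit with hCg
  have hCv : Cg.1 = C := hunit.unit_spec
  have hCmem : Cg ∈ Cfsg.spGL 2 F := fun x y => by
    show sf (Cg.1 *ᵥ x) (Cg.1 *ᵥ y) = sf x y
    rw [hCv]; exact hiso x y
  refine ⟨Cg⁻¹, inv_mem hCmem, fun g hg i j => ?_⟩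
  rw [inv_inv]
  set y : Vec F := fun k => (Cg⁻¹ * g * Cg).1 k j with hy
  have hCy : C *ᵥ y = g.1 *ᵥ b j := by
    have h1 : Cg.1 * (Cg⁻¹ * g * Cg).1 = g.1 * Cg.1 := by
      rw [← Units.val_mul, ← Units.val_mul, ← mul_assoc, mul_inv_cancel_left]
    rw [hCv] at h1
    funext k
    exact congrFun (congrFun h1 k) j
  have hval : ∀ k, sf y (Pi.single k 1) ∈ K := fun k => by
    rw [← hiso, hCy, mulVec_single_one]
    exact lat_value hK (H.lat_invariant K hg (hbL j)) (hbL k)
  show y i ∈ K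
  rcases i with i | i
  · have h := hval (Sum.inr i)
    rw [sf_single_right] at h
    fin_cases i <;> simpa [Matrix.J, Fintype.sum_sum_type, Fin.sum_univ_two, CharTwo.neg_eq] using h
  · have h := hval (Sum.inl i)
    rw [sf_single_right] at h
    fin_cases i <;> simpa [Matrix.J, Fintype.sum_sum_type, Fin.sum_univ_two, CharTwo.neg_eq] using h

end Cfsg.Agent.SpFourRes.Transv
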