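import Cfsg.Agent.Lib.SpFourRes.Transv.Scalar
import Cfsg.Agent.Lib.SpFourRes.Transv.Field
import Cfsg.Agent.Lib.SpFourRes.Transv.Rational

/-!
Irreducible subgroups of `Sp₄(F)` generated by transvections, characteristic two: the trichotomy.

* `quad_of_full` : a three-space full over `F` gives an invariant quadratic map
* `trichotomy`
-/

set_option autoImplicit false
set_option linter.unusedSectionVars false

namespace Cfsg.Agent.SpFourRes.Transv

open Matrix

variable {F : Type*} [Field F] [CharP F 2] [Fintype F] {G : Subgroup (GL (Fin 2 ⊕ Fin 2) F)}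

lemma exists_avoid_two (hq : 4 ≤ Fintype.card F) (e e' : F) : ∃ k : F, k ≠ 0 ∧ k ≠ e ∧ k ≠ e' := by
  classical
  by_contra h
  push Not at h
  have h1 : Fintype.card F ≤ ({0, e, e'} : Finset F).card := by
    rw [← Finset.card_univ]
    exact Finset.card_le_card fun x _ => by
      by_cases h0 : x = 0
      · simp [h0]
      by_cases he : x = e
      · simp [he]
      simp [h x h0 he]
  exact absurd (h1.trans Finset.card_le_three) (by omega)

/-- The four vectors `a, b, r, z` span. -/
lemma span_four {a b r z : Vec F} (hab : sf a b ≠ 0) (hr : r ≠ 0) (har : sf a r = 0) (hbr : sf b r = 0)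
    (hzr : sf z r ≠ 0) (y : Vec F) :
    ∃ α β γ μ : F, y = α • a + β • b + γ • r + μ • z := by
  classical
  let L : (Fin 4 → F) →ₗ[F] Vec F :=
    (LinearMap.proj 0).smulRight a + (LinearMap.proj 1).smulRight b + (LinearMap.proj 2).smulRight r +
      (LinearMap.proj 3).smulRight z
  have hL : ∀ c : Fin 4 → F, L c = c 0 • a + c 1 • b + c 2 • r + c 3 • z := fun c => rfl
  have hinj : Function.Injective L := by
    rw [← LinearMap.ker_eq_bot, LinearMap.ker_eq_bot']
    intro c hc
    rw [hL] at hc
    have h3 : c 3 = 0 := by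
      have := congrArg (fun v => sf v r) hc
      simp [sf_add_left, sf_smul_left, sf_self, har, hbr, sf_zero_left] at this
      exact this.resolve_right hzr
    rw [h3, zero_smul, add_zero] at hc
    have h0 : c 0 = 0 := by
      have := congrArg (fun v => sf v b) hc
      simp [sf_add_left, sf_smul_left, sf_self, sf_comm r b, hbr, sf_zero_left] at this
      exact this.resolve_right hab
    have h1 : c 1 = 0 := by
      have := congrArg (fun v => sf v a) hc
      simp [sf_add_left, sf_smul_left, sf_self, sf_comm r a, har, sf_zero_left, sf_comm b a] at this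
      exact this.resolve_right hab
    rw [h0, h1, zero_smul, zero_smul, zero_add, zero_add] at hc
    have h2 : c 2 = 0 := (smul_eq_zero.1 hc).resolve_right hr
    ext i; fin_cases i <;> assumption
  obtain ⟨c, hc⟩ := (LinearMap.injective_iff_surjective_of_finrank_eq_finrank (by
    simp [Module.finrank_fintype_fun_eq_card])).1 hinj y
  exact ⟨c 0, c 1, c 2, c 3, by rw [← hc, hL]⟩

set_option maxHeartbeats 800000 in
/-- A three-space full over `F` gives a quadratic map that is one on all vectors. -/
theorem quad_of_full (hq : 4 ≤ Fintype.card F) (H : Gen G) (NC : NoCollinear G) {a b r : Vec F}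
    (ha : a ∈ tvecs G) (hb : b ∈ tvecs G) (hab : sf a b ≠ 0) (hr : r ≠ 0) (har : sf a r = 0)
    (hbr : sf b r = 0) {g : PSL2.SL2 F}
    (hpl : IsPlane (⊤ : Subfield F) g (img G a b (Submodule.span F {a, b, r}))) :
    ∃ Q, IsQuad Q ∧ ∀ u ∈ tvecs G, Q u = 1 := by
  classical
  set X := Submodule.span F ({a, b, r} : Set (Vec F)) with hX
  have hK : 4 ≤ Nat.card (⊤ : Subfield F) := by
    rw [Nat.card_congr (Subfield.topEquiv (K := F)).toEquiv, Nat.card_eq_fintype_card]; exact hq
  obtain ⟨Q₀, hQ₀, hQr, hQU⟩ := quad3_full H NC hr har hbr rfl hab hK hpl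
  have hG := good_three hab har hbr
  have hrX : r ∈ X := Submodule.subset_span (by simp)
  have hprojr : proj a b r = 0 := by
    have h := proj_comb hab har hbr 0 0 1
    simp at h
    rw [h]; ext i; fin_cases i <;> rfl
  have hrad : ∀ x ∈ X, sf r x = 0 := fun x hx => by
    rw [hG.sf_eq r hrX x hx, hprojr]; simp [br]
  -- the quadric of `X` consists of vectors of transvections
  have honX : ∀ x ∈ X, proj a b x ≠ 0 → Q₀ x = 1 → x ∈ tvecs G := by
    intro x hx h0 h1
    obtain ⟨-, w, hw, hwX, he⟩ := (hpl (proj a b x)).2 ⟨h0, fun i => Subfield.mem_top _⟩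
    obtain ⟨ν, hν⟩ := eq_smul_of_proj_eq_zero hab har hbr (add_mem hwX hx) (by
      rw [map_add, he]; exact funext fun i => add_self _)
    have h2 := hQU w hw hwX (he ▸ h0)
    have hwe : w = x + ν • r := by
      rw [← hν, ← add_assoc, add_comm x w, add_assoc, vec_add_self, add_zero]
    rw [hwe, hQ₀.add, hQ₀.smul, h1, sf_smul_right, sf_comm, hrad x hx, mul_zero, add_zero] at h2
    have hν0 : ν = 0 := by
      rcases mul_eq_zero.1 (add_eq_left.1 h2) with h | h
      · exact pow_eq_zero_iff two_ne_zero |>.1 h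
      · exact absurd h hQr
    rw [hν0, zero_smul, add_zero] at hwe
    exact hwe ▸ hw
  obtain ⟨z, hz, hzr⟩ := H.exists_ne hr
  rw [sf_comm] at hzr
  have hzX : z ∉ X := fun h => hzr (by rw [sf_comm]; exact hrad z h)
  obtain ⟨Q, hQ, hQX, hQz⟩ := exists_quad_step hQ₀ X hzX 1
  -- vectors off `X`
  have hout : ∀ y ∈ tvecs G, sf y r ≠ 0 → Q y = 1 := by
    intro y hy hyr
    obtain ⟨α, β, γ, μ, hye⟩ := span_four hab hr har hbr hzr y
    have hμ : μ ≠ 0 := fun h => hyr (by
      rw [hye, h]; simp [sf_add_left, sf_smul_left, sf_self, har, hbr])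
    -- a vector of `X` off the radical with `y` in the span with `r` and `z`
    obtain ⟨x₁, hx₁, hx₁0, ν, γ', hye'⟩ : ∃ x₁ ∈ X, proj a b x₁ ≠ 0 ∧ ∃ ν γ' : F,
        y = ν • x₁ + γ' • r + μ • z := by
      by_cases h0 : proj a b (α • a + β • b) = 0
      · refine ⟨a, hG.mem_a, by rw [proj_a hab]; exact fun h => one_ne_zero (show (1 : F) = 0 by
          simpa using congrFun h 0), 0, γ, ?_⟩
        have e := proj_comb hab har hbr α β 0
        rw [zero_smul, add_zero, h0] at e
        have hα : α = 0 := by simpa using (congrFun e 0).symm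
        have hβ : β = 0 := by
          have : β * sf a b = 0 := by simpa using (congrFun e 1).symm
          exact (mul_eq_zero.1 this).resolve_right hab
        rw [hye, hα, hβ]; simp
      · exact ⟨α • a + β • b, add_mem (Submodule.smul_mem _ _ hG.mem_a) (Submodule.smul_mem _ _ hG.mem_b), h0,
          1, γ, by rw [hye, one_smul]⟩
    obtain ⟨c₀, hc₀⟩ := (bijective_frobenius F 2).2 (Q₀ r)⁻¹
    obtain ⟨c₁, hc₁⟩ := (bijective_frobenius F 2).2 (Q₀ x₁ / Q₀ r)
    rw [frobenius_def] at hc₀ hc₁
    have hc₀0 : c₀ ≠ 0 := fun h => by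
      rw [h, zero_pow two_ne_zero] at hc₀
      exact inv_ne_zero hQr hc₀.symm
    obtain ⟨d, hd⟩ : ∃ d : Vec F, d = x₁ + c₁ • r := ⟨_, rfl⟩
    have hdX : d ∈ X := hd ▸ add_mem hx₁ (Submodule.smul_mem _ _ hrX)
    -- the vectors `k • d + c₀ • r` of the line
    have hline : ∀ k : F, k ≠ 0 → k • d + c₀ • r ∈ tvecs G := by
      intro k hk
      refine honX _ (add_mem (Submodule.smul_mem _ _ hdX) (Submodule.smul_mem _ _ hrX)) ?_ ?_
      · rw [map_add, map_smul, map_smul, hd, map_add, map_smul, hprojr, smul_zero, add_zero, smul_zero, add_zero]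
        exact smul_ne_zero hk hx₁0
      · have hxr : sf x₁ r = 0 := by rw [sf_comm]; exact hrad x₁ hx₁
        rw [hQ₀.add, hQ₀.smul, hQ₀.smul, hd, hQ₀.add, hQ₀.smul, hc₀, hc₁, inv_mul_cancel₀ hQr,
          div_mul_cancel₀ _ hQr]
        simp [sf_add_left, sf_smul_left, sf_smul_right, sf_self, hxr]
        exact Or.inr (add_self _)
    obtain ⟨k, hk0, hk, -⟩ := exists_avoid_two hq (c₀ * sf z r / sf z d) (c₀ * sf z r / sf z d)
    obtain ⟨k', hk'0, hk', hkk⟩ := exists_avoid_two hq (c₀ * sf z r / sf z d) k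
    have hf : ∀ k : F, k ≠ c₀ * sf z r / sf z d → sf z (k • d + c₀ • r) ≠ 0 := by
      intro k hk h
      rw [sf_add_right, sf_smul_right, sf_smul_right] at h
      rcases eq_or_ne (sf z d) 0 with h0 | h0
      · rw [h0, mul_zero, zero_add] at h
        exact mul_ne_zero hc₀0 hzr h
      · exact hk (by rw [eq_div_iff h0]; exact CharTwo.add_eq_zero.1 h)
    set u := k • d + c₀ • r with hu
    set u' := k' • d + c₀ • r with hu'
    have huU := hline k hk0
    have hu'U := hline k' hk'0
    have hzu := hf k hk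
    have hzu' := hf k' hk'
    set r' := comp z u u' with hr'
    obtain ⟨ho1, ho2⟩ := comp_orth hzu u'
    have hr'0 : r' ≠ 0 := by
      intro h
      have e := eq_comp_add (a := z) (b := u) u'
      rw [← hr', h, add_zero] at e
      set A := sf u' u / sf z u
      set B := sf u' z / sf z u
      have hA : A = 0 := by
        by_contra hA
        refine hzX ?_
        have : A • z ∈ X := by
          have hmem : u' + B • u ∈ X := add_mem (add_mem (Submodule.smul_mem _ _ hdX) (Submodule.smul_mem _ _ hrX))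
            (Submodule.smul_mem _ _ (add_mem (Submodule.smul_mem _ _ hdX) (Submodule.smul_mem _ _ hrX)))
          rwa [e, add_assoc, vec_add_self, add_zero] at hmem
        exact (Submodule.smul_mem_iff _ hA).1 this
      rw [hA, zero_smul, zero_add, hu', hu, smul_add, smul_smul, smul_smul] at e
      have e2 : (k' + B * k) • d + (c₀ + B * c₀) • r = 0 := by
        rw [add_smul, add_smul, add_add_add_comm, e]; exact vec_add_self _
      have h1 := congrArg (proj a b) e2
      rw [map_add, map_smul, map_smul, hd, map_add, map_smul, hprojr, smul_zero, add_zero, smul_zero, add_zero,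
        map_zero] at h1
      have h2 : k' + B * k = 0 := (smul_eq_zero.1 h1).resolve_right hx₁0
      rw [h2, zero_smul, zero_add] at e2
      have h3 : c₀ + B * c₀ = 0 := (smul_eq_zero.1 e2).resolve_right hr
      have hB : B = 1 := by
        have h4 : (1 + B) * c₀ = 0 := by rw [add_mul, one_mul]; exact h3
        exact (CharTwo.add_eq_zero.1 ((mul_eq_zero.1 h4).resolve_right hc₀0)).symm
      rw [hB, one_mul] at h2
      exact hkk (CharTwo.add_eq_zero.1 h2)
    obtain ⟨Q₃, hQ₃, h3⟩ := quad3 H NC hr'0 ho1 ho2 hzu hz huU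
    set X' := Submodule.span F ({z, u, r'} : Set (Vec F)) with hX'
    have hz' : z ∈ X' := Submodule.subset_span (by simp)
    have huX' : u ∈ X' := Submodule.subset_span (by simp)
    have hu'X' : u' ∈ X' := mem_span_comp u'
    have hrX' : r ∈ X' := by
      have : ((k' + k) * c₀) • r ∈ X' := by
        have hm := add_mem (Submodule.smul_mem X' k' huX') (Submodule.smul_mem X' k hu'X')
        convert hm using 1
        rw [hu, hu', smul_add, smul_add, smul_smul, smul_smul, smul_smul, smul_smul, mul_comm k' k,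
          add_add_add_comm, vec_add_self, zero_add, ← add_smul, add_mul]
      exact (Submodule.smul_mem_iff _ (mul_ne_zero (fun h => hkk (CharTwo.add_eq_zero.1 h)) hc₀0)).1 this
    have hdX' : d ∈ X' := by
      have : k • d ∈ X' := by
        have hm := add_mem huX' (Submodule.smul_mem X' c₀ hrX')
        rwa [hu, add_assoc, vec_add_self, add_zero] at hm
      exact (Submodule.smul_mem_iff _ hk0).1 this
    have hx₁X' : x₁ ∈ X' := by
      have hm := add_mem hdX' (Submodule.smul_mem X' c₁ hrX')
      rwa [hd, add_assoc, vec_add_self, add_zero] at hm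
    have hyX' : y ∈ X' := hye' ▸ add_mem (add_mem (Submodule.smul_mem _ _ hx₁X') (Submodule.smul_mem _ _ hrX'))
      (Submodule.smul_mem _ _ hz')
    have hne : ∀ w : Vec F, sf w z ≠ 0 → proj z u w ≠ 0 := fun w hw h0 => hw (by
      have := congrFun h0 1
      simpa [proj] using this)
    have e1 : Q₃ z = 1 := h3 z hz hz' (by
      rw [proj_a hzu]; exact fun h => one_ne_zero (show (1 : F) = 0 by simpa using congrFun h 0))
    have e2 : Q₃ u = 1 := h3 u huU huX' (hne u (by rwa [sf_comm]))
    have e3 : Q₃ u' = 1 := h3 u' hu'U hu'X' (hne u' (by rwa [sf_comm]))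
    have hQline : ∀ k : F, k ≠ 0 → Q (k • d + c₀ • r) = 1 := fun k hk => by
      have hm : k • d + c₀ • r ∈ X := add_mem (Submodule.smul_mem _ _ hdX) (Submodule.smul_mem _ _ hrX)
      rw [hQX _ hm]
      refine hQU _ (hline k hk) hm ?_
      rw [map_add, map_smul, map_smul, hd, map_add, map_smul, hprojr, smul_zero, add_zero, smul_zero, add_zero]
      exact smul_ne_zero hk hx₁0
    have hy' : y ∈ Submodule.span F ({z, u, u'} : Set (Vec F)) := by
      refine Submodule.span_le.2 ?_ hyX'
      intro w hw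
      simp only [Set.mem_insert_iff, Set.mem_singleton_iff] at hw
      rcases hw with rfl | rfl | rfl
      · exact Submodule.subset_span (by simp)
      · exact Submodule.subset_span (by simp)
      · rw [hr']
        simp only [comp, SetLike.mem_coe]
        exact add_mem (add_mem (Submodule.subset_span (by simp))
          (Submodule.smul_mem _ _ (Submodule.subset_span (by simp))))
          (Submodule.smul_mem _ _ (Submodule.subset_span (by simp)))
    rw [hQ.eq_on_span hQ₃ (s := {z, u, u'}) (fun w hw => ?_) hy']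
    · refine h3 y hy hyX' fun h0 => ?_
      have h1 := congrFun h0 0
      have h2 := congrFun h0 1
      simp [proj, hzu] at h1 h2
      -- `y` is orthogonal to neither `z` nor `u`
      have hl : sf x₁ u = 0 := by
        rw [hu, hd]
        simp [sf_add_right, sf_smul_right, sf_self, sf_comm x₁ r, hrad x₁ hx₁]
      have hru : sf r u = 0 := hrad u (add_mem (Submodule.smul_mem _ _ hdX) (Submodule.smul_mem _ _ hrX))
      rw [hye', sf_add_left, sf_add_left, sf_smul_left, sf_smul_left, sf_smul_left, hl, hru, mul_zero, mul_zero,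
        zero_add, zero_add] at h1
      exact mul_ne_zero hμ hzu h1
    · simp only [Set.mem_insert_iff, Set.mem_singleton_iff] at hw
      rcases hw with rfl | rfl | rfl
      · rw [hQz, e1]
      · rw [hu, hQline k hk0, ← hu, e2]
      · rw [hu', hQline k' hk'0, ← hu', e3]
  refine ⟨Q, hQ, fun y hy => ?_⟩
  by_cases hyr : sf y r = 0
  swap
  · exact hout y hy hyr
  obtain ⟨α, β, γ, μ, hye⟩ := span_four hab hr har hbr hzr y
  have hμ : μ = 0 := by
    rw [hye] at hyr
    simp [sf_add_left, sf_smul_left, sf_self, har, hbr] at hyr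
    exact hyr.resolve_right hzr
  rw [hμ, zero_smul, add_zero] at hye
  have hyX : y ∈ X := hye ▸ add_mem (add_mem (Submodule.smul_mem _ _ hG.mem_a) (Submodule.smul_mem _ _ hG.mem_b))
    (Submodule.smul_mem _ _ hrX)
  by_cases h0 : proj a b y = 0
  swap
  · rw [hQX y hyX]; exact hQU y hy hyX h0
  obtain ⟨ν, hν⟩ := eq_smul_of_proj_eq_zero hab har hbr hyX h0
  have hν0 : ν ≠ 0 := fun h => hy.1 (by rw [hν, h, zero_smul])
  have hs := H.step hz hy
  have hyz : sf y z ≠ 0 := by
    rw [hν, sf_smul_left, sf_comm r z]; exact mul_ne_zero hν0 hzr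
  have h1 := hout _ hs (by
    rw [sf_add_left, sf_smul_left, hyr, zero_add]
    exact mul_ne_zero hyz hzr)
  rwa [hQ.tg_eq hQz] at h1

/-- **Irreducible groups generated by transvections in `Sp₄(F)`, characteristic two.** -/
theorem trichotomy (hq : 4 ≤ Fintype.card F) (G : Subgroup (GL (Fin 2 ⊕ Fin 2) F))
    (hG : G ≤ Cfsg.spGL 2 F) (hirr : Cfsg.Geo.ActsIrreducibly (Cfsg.Geo.matrixSet G))
    (hgen : G = Subgroup.closure {g | g ∈ G ∧ ∃ u, IsTvec g u}) :
    G = Cfsg.spGL 2 F ∨ (∃ Q, IsQuad Q ∧ ∀ u ∈ tvecs G, Q u = 1) ∨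
      ∃ K : Subfield F, K ≠ ⊤ ∧ ∃ B ∈ Cfsg.spGL 2 F, ∀ g ∈ G, ∀ i j,
        (B * g * B⁻¹ : GL (Fin 2 ⊕ Fin 2) F).1 i j ∈ K := by
  have H : Gen G := ⟨hG, hirr, hgen⟩
  by_cases NC : NoCollinear G
  swap
  · rcases of_collinear hq H NC with h | ⟨K, hK, h⟩
    · exact Or.inl h
    · exact Or.inr (Or.inr ⟨K, hK, rational_of_values H K h⟩)
  rcases values_or_generating_pair H with ⟨K, hK, h⟩ | ⟨a, ha, b, hb, hab, hgen'⟩
  · exact Or.inr (Or.inr ⟨K, hK, rational_of_values H K h⟩)
  refine Or.inr (Or.inl ?_)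
  obtain ⟨u, hu, hu0, hu1⟩ : ∃ u ∈ tvecs G, proj a b u ≠ 0 ∧ qab (sf a b) (proj a b u) ≠ 1 := by
    by_contra h
    push Not at h
    exact false_of_all_conic hq H ha hb hab hgen' h
  obtain ⟨h1, h2⟩ := comp_orth hab u
  have hG3 := good_three hab h1 h2
  rcases cases H hG3 ha hb with ⟨hc, -⟩ | ⟨K, g, -, hpl⟩
  · exact absurd (hc _ (mem_img hu (mem_span_comp u) hu0)) hu1
  have hKT : K = ⊤ := top_le_iff.1 (hgen' ▸ Subfield.closure_le.2 (Set.singleton_subset_iff.2 (by
    have hA := ((hpl _).1 (a_mem_img hG3 ha)).2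
    have hB := ((hpl _).1 (b_mem_img hG3 hb)).2
    have e : br (act2 g ![1, 0]) (act2 g ![0, sf a b]) = sf a b := by rw [br_mulVec]; simp [br]
    rw [SetLike.mem_coe, ← e]
    exact add_mem (mul_mem (hA 0) (hB 1)) (mul_mem (hA 1) (hB 0)))))
  subst hKT
  have hr : comp a b u ≠ 0 := by
    intro h0
    obtain ⟨c, hc0, hc1, -⟩ := exists_avoid_two hq 1 1
    obtain ⟨-, w, hw, hwS, he⟩ := (hpl ![c, 0]).2
      ⟨fun h => hc0 (by simpa using congrFun h 0), fun i => Subfield.mem_top _⟩
    obtain ⟨γ, hγ⟩ := eq_smul_of_proj_eq_zero hab h1 h2 (add_mem hwS (Submodule.smul_mem _ c hG3.mem_a)) (by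
      rw [map_add, map_smul, he, proj_a hab]
      ext i; fin_cases i <;> simp [add_self])
    rw [h0, smul_zero] at hγ
    have : w = c • a := funext fun i => CharTwo.add_eq_zero.1 (congrFun hγ i)
    exact hc1 (NC a ha c (this ▸ hw))
  exact quad_of_full hq H NC ha hb hab hr h1 h2 hpl

end Cfsg.Agent.SpFourRes.Transv
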