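import Cfsg.Agent.Lib.Mitchell.TransvTwo.SLTwo

/-!
Sets of vectors in `F²` closed under the transvections they define, characteristic two.

* `br`, `refl2 p` (the transvection `x ↦ x + br(x,p) p`)
* `pair` : the vectors lie on one conic, with values of `br` in a field generated by one of them, or are all
  nonzero vectors of a plane over a subfield with at least four elements.
-/

set_option autoImplicit false
set_option linter.unusedSectionVars false
set_option linter.style.haveILetI false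

namespace Cfsg.Agent.SpFourRes.Transv

open Matrix PSL2 Mitchell.TransvTwo

variable {F : Type*} [Field F]

/-- The alternating form on `F²`. -/
def br (p q : Fin 2 → F) : F := p 0 * q 1 + p 1 * q 0

lemma add_self [CharP F 2] (x : F) : x + x = 0 := CharTwo.add_self_eq_zero x

lemma two_zero [CharP F 2] : (2 : F) = 0 := CharTwo.two_eq_zero

/-- The action on `F²`. -/
def act2 (g : SL2 F) (p : Fin 2 → F) : Fin 2 → F := (g : Matrix (Fin 2) (Fin 2) F) *ᵥ p

lemma act2_apply (g : SL2 F) (p : Fin 2 → F) (i : Fin 2) :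
    act2 g p i = g.1 i 0 * p 0 + g.1 i 1 * p 1 := by
  simp [act2, Matrix.mulVec, dotProduct, Fin.sum_univ_two]

lemma act2_mul (g h : SL2 F) (p : Fin 2 → F) : act2 (g * h) p = act2 g (act2 h p) := by
  show (g.1 * h.1) *ᵥ p = g.1 *ᵥ (h.1 *ᵥ p)
  rw [Matrix.mulVec_mulVec]

@[simp] lemma act2_one (p : Fin 2 → F) : act2 1 p = p := by simp [act2]

lemma act2_inv (g : SL2 F) (p : Fin 2 → F) : act2 g⁻¹ (act2 g p) = p := by
  rw [← act2_mul, inv_mul_cancel, act2_one]

lemma act2_inv' (g : SL2 F) (p : Fin 2 → F) : act2 g (act2 g⁻¹ p) = p := by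
  rw [← act2_mul, mul_inv_cancel, act2_one]

lemma act2_add (g : SL2 F) (p q : Fin 2 → F) : act2 g (p + q) = act2 g p + act2 g q := Matrix.mulVec_add _ _ _

lemma act2_smul (g : SL2 F) (c : F) (p : Fin 2 → F) : act2 g (c • p) = c • act2 g p := Matrix.mulVec_smul _ _ _

lemma act2_ne_zero (g : SL2 F) {p : Fin 2 → F} (hp : p ≠ 0) : act2 g p ≠ 0 := fun h => hp (by
  rw [← act2_inv g p, h, act2, Matrix.mulVec_zero])

lemma br_mulVec [CharP F 2] (g : SL2 F) (p q : Fin 2 → F) : br (act2 g p) (act2 g q) = br p q := by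
  have h := det_eq g
  simp only [br, act2_apply]
  linear_combination (p 0 * q 1 + p 1 * q 0) * h + (g.1 0 0 * g.1 1 0 * p 0 * q 0 + g.1 0 1 * g.1 1 1 * p 1 * q 1 +
    g.1 0 1 * g.1 1 0 * (p 0 * q 1 + p 1 * q 0)) * (two_zero (F := F))

/-- The transvection of `F²` with vector `p`. -/
def refl2 [CharP F 2] (p : Fin 2 → F) : SL2 F :=
  ⟨!![1 + p 0 * p 1, p 0 ^ 2; p 1 ^ 2, 1 + p 0 * p 1], by
    rw [Matrix.det_fin_two_of]; linear_combination (p 0 * p 1) * (two_zero (F := F))⟩

lemma refl2_mulVec [CharP F 2] (p x : Fin 2 → F) : act2 (refl2 p) x = x + br x p • p := by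
  ext i
  rw [act2_apply]
  fin_cases i <;> simp [refl2, br] <;> ring

lemma sl_ext {g h : SL2 F} (e : ∀ x, act2 g x = act2 h x) : g = h :=
  Subtype.ext (Matrix.ext_of_mulVec_single fun _ => e _)

lemma br_self [CharP F 2] (p : Fin 2 → F) : br p p = 0 := by
  rw [br, mul_comm (p 1)]; exact add_self _

lemma refl2_conj [CharP F 2] (g : SL2 F) (p : Fin 2 → F) : g * refl2 p * g⁻¹ = refl2 (act2 g p) := by
  refine sl_ext fun x => ?_
  have e : act2 g (act2 g⁻¹ x) = x := act2_inv' g x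
  rw [act2_mul, act2_mul, refl2_mulVec, act2_add, act2_smul, e, refl2_mulVec]
  conv_rhs => arg 2; arg 1; rw [← e, br_mulVec]

lemma sq_inj [CharP F 2] {x y : F} (h : x ^ 2 = y ^ 2) : x = y := by
  have : (x + y) ^ 2 = 0 := by rw [CharTwo.add_sq, h]; exact add_self _
  exact CharTwo.add_eq_zero.1 (pow_eq_zero_iff two_ne_zero |>.1 this)

lemma refl2_injective [CharP F 2] : Function.Injective (refl2 (F := F)) := by
  intro p q h
  have h0 := congrArg (fun g : SL2 F => g.1 0 1) h
  have h1 := congrArg (fun g : SL2 F => g.1 1 0) h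
  simp [refl2] at h0 h1
  ext i; fin_cases i
  · exact sq_inj h0
  · exact sq_inj h1

lemma refl2_zero [CharP F 2] : refl2 (0 : Fin 2 → F) = 1 := by
  refine sl_ext fun x => ?_
  rw [refl2_mulVec, smul_zero, add_zero, act2_one]

lemma refl2_mul_self [CharP F 2] (p : Fin 2 → F) : refl2 p * refl2 p = 1 := by
  refine sl_ext fun x => ?_
  rw [act2_mul, refl2_mulVec, refl2_mulVec, act2_one]
  ext i
  simp only [Pi.add_apply, Pi.smul_apply, smul_eq_mul, br]
  linear_combination ((x 0 * p 1 + x 1 * p 0) * p i * (1 + p 0 * p 1)) * (two_zero (F := F))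

lemma tr_refl2_mul [CharP F 2] (p q : Fin 2 → F) : tr (refl2 p * refl2 q) = br p q ^ 2 := by
  rw [tr]
  show ((refl2 p).1 * (refl2 q).1) 0 0 + ((refl2 p).1 * (refl2 q).1) 1 1 = _
  simp [refl2, Matrix.mul_apply, Fin.sum_univ_two, br]
  linear_combination (1 + p 0 * p 1 + q 0 * q 1) * (two_zero (F := F))

/-- A quadratic map of `F²` with polar `br`. -/
structure IsQuad2 (Q : (Fin 2 → F) → F) : Prop where
  smul : ∀ (c : F) (x : Fin 2 → F), Q (c • x) = c ^ 2 * Q x
  add : ∀ x y, Q (x + y) = Q x + Q y + br x y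

/-- All nonzero vectors of a plane over the subfield `K`, in a basis with determinant one. -/
def IsPlane (K : Subfield F) (g : SL2 F) (U : Set (Fin 2 → F)) : Prop :=
  ∀ p, p ∈ U ↔ p ≠ 0 ∧ ∀ i, (act2 g p) i ∈ K

section Main

variable [Fintype F] [CharP F 2]

/-- The group of the transvections with vectors in `U`. -/
def grp2 (U : Set (Fin 2 → F)) : Subgroup (SL2 F) := Subgroup.closure (refl2 '' U)

lemma mem_iff_of_mem_grp2 {U : Set (Fin 2 → F)} (hcl : ∀ p ∈ U, ∀ q ∈ U, q + br q p • p ∈ U)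
    {g : SL2 F} (hg : g ∈ grp2 U) : ∀ q, act2 g q ∈ U ↔ q ∈ U := by
  induction hg using Subgroup.closure_induction with
  | mem g hg =>
    obtain ⟨p, hp, rfl⟩ := hg
    refine fun q => ⟨fun h => ?_, fun h => by rw [refl2_mulVec]; exact hcl p hp q h⟩
    have h' := hcl p hp _ h
    rwa [← refl2_mulVec, ← act2_mul, refl2_mul_self, act2_one] at h'
  | one => intro q; rw [act2_one]
  | mul g h _ _ ihg ihh =>
    intro q; rw [act2_mul, ihg, ihh]
  | inv g _ ih =>
    intro q
    rw [← ih, act2_inv']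

/-- A generated dihedral group of twice odd order puts the vectors on a conic. -/
lemma of_dihedral {U : Set (Fin 2 → F)} (hcl : ∀ p ∈ U, ∀ q ∈ U, q + br q p • p ∈ U)
    (h0 : ∀ p ∈ U, p ≠ 0) {a : Fin 2 → F} (ha : a ∈ U) {b : Fin 2 → F} (hab : br a b ≠ 0)
    {n : ℕ} (hn : ¬ 2 ∣ n) (hn2 : 2 ≤ n) (e : grp2 U ≃* DihedralGroup n) :
    ∃ Q, IsQuad2 Q ∧ (∀ p ∈ U, Q p = 1) ∧ ∃ p₀ ∈ U, ∃ q₀ ∈ U,
      ∀ p ∈ U, ∀ q ∈ U, br p q ∈ Subfield.closure {br p₀ q₀} := by
  have : NeZero n := ⟨by omega⟩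
  have hmem : ∀ p ∈ U, refl2 p ∈ grp2 U := fun p hp => Subgroup.subset_closure ⟨p, hp, rfl⟩
  -- reflections
  have hsr : ∀ p (hp : p ∈ U), ∃ i, e ⟨refl2 p, hmem p hp⟩ = DihedralGroup.sr i := by
    intro p hp
    have h1 : (e ⟨refl2 p, hmem p hp⟩) * e ⟨refl2 p, hmem p hp⟩ = 1 := by
      rw [← map_mul, ← map_one e]; exact congrArg e (Subtype.ext (refl2_mul_self p))
    rcases hk : e ⟨refl2 p, hmem p hp⟩ with i | i
    · exfalso
      rw [hk, DihedralGroup.r_mul_r, ← DihedralGroup.r_zero, DihedralGroup.r.injEq] at h1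
      have hu : IsUnit (2 : ZMod n) := by
        have h2 : ((2 : ℕ) : ZMod n) = 2 := Nat.cast_ofNat
        rw [← h2, ZMod.isUnit_iff_coprime]
        exact (Nat.prime_two.coprime_iff_not_dvd).2 hn
      have hi : i = 0 := hu.mul_right_eq_zero.1 (by rw [two_mul]; exact h1)
      rw [hi, DihedralGroup.r_zero] at hk
      have := congrArg Subtype.val (e.injective (hk.trans (map_one e).symm))
      exact h0 p hp (refl2_injective (this.trans refl2_zero.symm))
    · exact ⟨i, rfl⟩
  obtain ⟨i, hi⟩ := hsr a ha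
  obtain ⟨⟨h, hh⟩, her⟩ := e.surjective (DihedralGroup.r 1)
  have hpow : ∀ m : ℕ, e (⟨h, hh⟩ ^ m) = DihedralGroup.r (m : ZMod n) := fun m => by
    rw [map_pow, her, DihedralGroup.r_one_pow]
  -- every vector is an image of `a`
  have himg : ∀ p ∈ U, ∃ m : ℕ, p = act2 (h ^ m) a := by
    intro p hp
    obtain ⟨k, hk⟩ := hsr p hp
    have hu : IsUnit (2 : ZMod n) := by
      have h2 : ((2 : ℕ) : ZMod n) = 2 := Nat.cast_ofNat
      rw [← h2, ZMod.isUnit_iff_coprime]
      exact (Nat.prime_two.coprime_iff_not_dvd).2 hn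
    obtain ⟨c, hc⟩ : ∃ c : ZMod n, 2 * c = i - k := ⟨↑hu.unit⁻¹ * (i - k), by
      rw [← mul_assoc, IsUnit.mul_val_inv, one_mul]⟩
    refine ⟨c.val, refl2_injective ?_⟩
    rw [← refl2_conj]
    refine congrArg Subtype.val (e.injective (a₁ := ⟨refl2 p, hmem p hp⟩)
      (a₂ := ⟨h, hh⟩ ^ c.val * ⟨refl2 a, hmem a ha⟩ * (⟨h, hh⟩ ^ c.val)⁻¹) ?_)
    rw [hk, map_mul, map_mul, map_inv, hpow, hi, ZMod.natCast_zmod_val, DihedralGroup.inv_r, DihedralGroup.r_mul_sr,
      DihedralGroup.sr_mul_r]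
    congr 1
    linear_combination hc
  -- inversion
  have hinv : refl2 a * h * refl2 a = h⁻¹ := by
    refine congrArg Subtype.val (e.injective (a₁ := ⟨refl2 a, hmem a ha⟩ * ⟨h, hh⟩ * ⟨refl2 a, hmem a ha⟩)
      (a₂ := ⟨h, hh⟩⁻¹) ?_)
    rw [map_mul, map_mul, map_inv, her, hi, DihedralGroup.sr_mul_r, DihedralGroup.sr_mul_sr,
      DihedralGroup.inv_r]
    congr 1; ring
  -- the trace of the rotation
  have hCH : ∀ x : Fin 2 → F, act2 h x + act2 h⁻¹ x = tr h • x := by
    intro x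
    ext j
    rw [Pi.add_apply, act2_apply, act2_apply, Pi.smul_apply, smul_eq_mul]
    simp only [tr]
    fin_cases j <;> simp [Matrix.adjugate_fin_two]
    · linear_combination (h.1 0 1 * x 1 - h.1 0 1 * x 1) * (two_zero (F := F))
    · linear_combination (h.1 1 0 * x 0 - h.1 1 0 * x 0) * (two_zero (F := F))
  have ht : tr h ≠ 0 := by
    intro ht
    have hh2 : h = h⁻¹ := sl_ext fun x => CharTwo.add_eq_zero.1 (by rw [hCH, ht, zero_smul])
    have h2 := hpow 2
    rw [pow_two, show (⟨h, hh⟩ : grp2 U) * ⟨h, hh⟩ = 1 from Subtype.ext (by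
      show h * h = 1
      nth_rw 2 [hh2]
      exact mul_inv_cancel h), map_one, ← DihedralGroup.r_zero, DihedralGroup.r.injEq] at h2
    have := (ZMod.natCast_eq_zero_iff 2 n).1 h2.symm
    rcases (Nat.dvd_prime Nat.prime_two).1 this with e1 | e1
    · omega
    · exact hn (e1 ▸ dvd_rfl)
  let Q : (Fin 2 → F) → F := fun x => br x (act2 h x) / tr h
  have hQ : IsQuad2 Q := by
    refine ⟨fun c x => ?_, fun x y => ?_⟩
    · simp only [Q, act2_smul, br, Pi.smul_apply, smul_eq_mul]; ring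
    · have hy : br y (act2 h x) = br (act2 h⁻¹ y) x := by
        have := br_mulVec h (act2 h⁻¹ y) x
        rwa [act2_inv'] at this
      have hsum : br x (act2 h y) + br y (act2 h x) = tr h * br x y := by
        rw [hy]
        have e1 := congrArg (fun v => br x v) (hCH y)
        simp only [br, Pi.add_apply, Pi.smul_apply, smul_eq_mul] at e1 ⊢
        linear_combination e1
      simp only [Q]
      rw [eq_comm, ← add_div, div_add' _ _ _ ht, act2_add]
      congr 1
      simp only [br, Pi.add_apply] at hsum ⊢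
      linear_combination -hsum
  have hQh : ∀ (m : ℕ) x, Q (act2 (h ^ m) x) = Q x := by
    intro m x
    simp only [Q]
    rw [← act2_mul, ← pow_succ', pow_succ, act2_mul, br_mulVec]
  have hQa : ∀ x, Q (act2 (refl2 a) x) = Q x := by
    intro x
    simp only [Q]
    congr 1
    have e1 : h * refl2 a = refl2 a * h⁻¹ := by
      rw [← hinv, ← mul_assoc, ← mul_assoc, refl2_mul_self, one_mul]
    rw [← act2_mul, e1, act2_mul, br_mulVec]
    have e2 := congrArg (fun v => br x v) (hCH x)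
    simp only [br, Pi.add_apply, Pi.smul_apply, smul_eq_mul] at e2 ⊢
    linear_combination e2 - (x 0 * (act2 h x) 1 + x 1 * (act2 h x) 0 - tr h * x 0 * x 1) * (two_zero (F := F))
  have ha1 : Q a = 1 := by
    have h1 := hQa b
    rw [refl2_mulVec, hQ.add, hQ.smul] at h1
    have h3 : br b a = br a b := by simp only [br]; ring
    have h2 : br b (br b a • a) = br b a ^ 2 := by simp only [br, Pi.smul_apply, smul_eq_mul]; ring
    rw [h2, h3] at h1
    have h4 : br a b ^ 2 * (Q a + 1) = 0 := by linear_combination h1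
    exact CharTwo.add_eq_zero.1 ((mul_eq_zero.1 h4).resolve_left (pow_ne_zero 2 hab))
  have hone : ∀ p ∈ U, Q p = 1 := fun p hp => by
    obtain ⟨m, rfl⟩ := himg p hp
    rw [hQh, ha1]
  refine ⟨Q, hQ, hone, a, ha, act2 h a, (mem_iff_of_mem_grp2 hcl hh a).2 ha, ?_⟩
  set t := br a (act2 h a) with ht'
  have htt : t = tr h := by
    have := ha1
    simp only [Q] at this
    exact (div_eq_one_iff_eq ht).1 this
  have hrec : ∀ m : ℕ, br a (act2 (h ^ m) a) ∈ Subfield.closure {t} := by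
    intro m
    induction m using Nat.strong_induction_on with
    | _ m ih =>
      rcases m with _ | _ | m
      · rw [pow_zero, act2_one, br_self]; exact zero_mem _
      · rw [zero_add, pow_one]; exact Subfield.subset_closure rfl
      · have e3 : act2 (h ^ (m + 2)) a + act2 (h ^ m) a = tr h • (act2 (h ^ (m + 1)) a) := by
          rw [← hCH (act2 (h ^ (m + 1)) a), ← act2_mul, ← act2_mul]
          congr 2
          · rw [← pow_succ']
          · rw [pow_succ', inv_mul_cancel_left]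
        have e4 : br a (act2 (h ^ (m + 2)) a) =
            t * br a (act2 (h ^ (m + 1)) a) + br a (act2 (h ^ m) a) := by
          rw [eq_sub_of_add_eq e3, CharTwo.sub_eq_add, htt]
          simp only [br, Pi.add_apply, Pi.smul_apply, smul_eq_mul]; ring
        rw [e4]
        exact add_mem (mul_mem (Subfield.subset_closure rfl) (ih _ (by omega))) (ih _ (by omega))
  intro p hp q hq
  obtain ⟨k, rfl⟩ := himg p hp
  obtain ⟨l, rfl⟩ := himg q hq
  rcases le_total k l with hkl | hkl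
  · rw [show l = k + (l - k) by omega, pow_add, act2_mul, br_mulVec]
    exact hrec _
  · rw [show k = l + (k - l) by omega, pow_add, act2_mul, br_mulVec,
      show br (act2 (h ^ (k - l)) a) a = br a (act2 (h ^ (k - l)) a) by simp only [br]; ring]
    exact hrec _

/-- A generated `SL₂(R)` gives a plane over `R`. -/
lemma of_subfield {U : Set (Fin 2 → F)} (hcl : ∀ p ∈ U, ∀ q ∈ U, q + br q p • p ∈ U)
    (h0 : ∀ p ∈ U, p ≠ 0) {a : Fin 2 → F} (ha : a ∈ U) {R : Subfield F} {u : GL (Fin 2) F}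
    (hR : ((grp2 U).map (QuotientGroup.mk' (Subgroup.center (SL2 F)))).map (outConj u).toMonoidHom =
      stdPSL R.subtype) :
    ∃ g : SL2 F, IsPlane R g U := by
  have h2 : (2 : F) = 0 := two_zero
  set π := QuotientGroup.mk' (Subgroup.center (SL2 F)) with hπ
  have hinj : Function.Injective π := mk_injective_two h2
  obtain ⟨c, hc⟩ := (bijective_frobenius F 2).2 (u.1.det)⁻¹
  rw [frobenius_def] at hc
  have hu : u.1.det ≠ 0 := (Matrix.GeneralLinearGroup.det_ne_zero u)
  let g : SL2 F := ⟨c • u.1, by rw [Matrix.det_smul, Fintype.card_fin, hc, inv_mul_cancel₀ hu]⟩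
  have hconj : ∀ s : SL2 F, AutPSL.semiSL u (RingEquiv.refl F) s = g * s * g⁻¹ := by
    intro s
    have e : AutPSL.semiSL u (RingEquiv.refl F) s * g = g * s := Subtype.ext (by
      show (AutPSL.semiSL u (RingEquiv.refl F) s).1 * (c • u.1) = (c • u.1) * s.1
      rw [AutPSL.semiSL_coe, Matrix.mul_smul, Matrix.smul_mul, mul_assoc, Units.inv_mul, mul_one]
      rfl)
    rw [← e, mul_inv_cancel_right]
  -- the conjugated group
  have hiff : ∀ s, g * s * g⁻¹ ∈ (SpecialLinearGroup.map R.subtype).range ↔ s ∈ grp2 U := by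
    intro s
    constructor
    · rintro ⟨t, ht⟩
      have h1 : outConj u (π s) ∈ stdPSL R.subtype := by
        rw [hπ, QuotientGroup.mk'_apply, outConj_mk', hconj, ← ht]
        exact toPGL_map_mem_stdPSL t
      rw [← hR] at h1
      obtain ⟨_, ⟨s', hs', rfl⟩, e⟩ := h1
      exact hinj ((outConj u).injective e) ▸ hs'
    · intro hs
      have h1 : outConj u (π s) ∈ stdPSL R.subtype := hR ▸ ⟨π s, ⟨s, hs, rfl⟩, rfl⟩
      rw [hπ, QuotientGroup.mk'_apply, outConj_mk', hconj] at h1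
      obtain ⟨y, hy⟩ := h1
      obtain ⟨t, rfl⟩ := QuotientGroup.mk_surjective y
      refine ⟨t, hinj (ProjectiveSpecialLinearGroup.toPGL_injective ?_)⟩
      rw [← hπ] at *
      rw [toK_apply, ProjectiveSpecialLinearGroup.toPGL_mk, ProjGenLinGroup.map_mk] at hy
      rw [hπ, QuotientGroup.mk'_apply, QuotientGroup.mk'_apply, ProjectiveSpecialLinearGroup.toPGL_mk]
      refine Eq.trans (congrArg ProjGenLinGroup.mk ?_) hy
      exact Units.ext (Matrix.ext fun i j => rfl)
  have hrat : ∀ p ∈ U, ∀ i, (act2 g p) i ∈ R := by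
    intro p hp
    obtain ⟨t, ht⟩ := (hiff _).2 (Subgroup.subset_closure ⟨p, hp, rfl⟩)
    rw [refl2_conj] at ht
    have he : ∀ i j, (refl2 (act2 g p)).1 i j ∈ R := fun i j => by rw [← ht]; exact (t.1 i j).2
    intro i
    fin_cases i
    · exact mem_of_sq h2 (by simpa [refl2] using he 0 1)
    · exact mem_of_sq h2 (by simpa [refl2] using he 1 0)
  refine ⟨g, fun p => ⟨fun hp => ⟨h0 p hp, hrat p hp⟩, fun ⟨hp, hpR⟩ => ?_⟩⟩
  have hne : act2 g p ≠ 0 := fun e => hp (by
    rw [← act2_inv g p, e, act2, Matrix.mulVec_zero])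
  have hne' : act2 g a ≠ 0 := fun e => h0 a ha (by
    rw [← act2_inv g a, e, act2, Matrix.mulVec_zero])
  -- a rational element taking the first basis vector to a nonzero rational vector
  have htrans : ∀ w : Fin 2 → F, w ≠ 0 → (∀ i, w i ∈ R) →
      ∃ t : SL2 R, act2 (SpecialLinearGroup.map R.subtype t) ![1, 0] = w := by
    intro w hw hwR
    by_cases hw0 : w 0 = 0
    · have hw1 : w 1 ≠ 0 := fun h => hw (funext fun i => by fin_cases i <;> assumption)
      refine ⟨⟨!![⟨w 0, hwR 0⟩, ⟨(w 1)⁻¹, inv_mem (hwR 1)⟩; ⟨w 1, hwR 1⟩, 0], Subtype.ext ?_⟩, ?_⟩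
      · rw [Matrix.det_fin_two_of]
        push_cast
        rw [hw0, inv_mul_cancel₀ hw1]
        linear_combination -h2
      · ext i
        rw [act2_apply]
        fin_cases i <;> simp <;> rfl
    · refine ⟨⟨!![⟨w 0, hwR 0⟩, 0; ⟨w 1, hwR 1⟩, ⟨(w 0)⁻¹, inv_mem (hwR 0)⟩], Subtype.ext ?_⟩, ?_⟩
      · rw [Matrix.det_fin_two_of]
        push_cast
        rw [mul_inv_cancel₀ hw0]
        ring
      · ext i
        rw [act2_apply]
        fin_cases i <;> simp <;> rfl
  obtain ⟨t, ht⟩ := htrans _ hne hpR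
  obtain ⟨t', ht'⟩ := htrans _ hne' (hrat a ha)
  set s := SpecialLinearGroup.map R.subtype (t * t'⁻¹) with hs
  have hsU : g⁻¹ * s * g ∈ grp2 U := (hiff _).1 ⟨t * t'⁻¹, by rw [hs]; group⟩
  have e : act2 (g⁻¹ * s * g) a = p := by
    rw [act2_mul, act2_mul, hs, map_mul, map_inv, act2_mul, ← ht', act2_inv, ht, act2_inv]
  exact e ▸ (mem_iff_of_mem_grp2 hcl hsU a).2 ha

/-- **Closed sets of vectors in `F²`.** -/
theorem pair {U : Set (Fin 2 → F)} (hcl : ∀ p ∈ U, ∀ q ∈ U, q + br q p • p ∈ U)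
    (h0 : ∀ p ∈ U, p ≠ 0) {a b : Fin 2 → F} (ha : a ∈ U) (hb : b ∈ U) (hab : br a b ≠ 0) :
    (∃ Q, IsQuad2 Q ∧ (∀ p ∈ U, Q p = 1) ∧ ∃ p₀ ∈ U, ∃ q₀ ∈ U,
      ∀ p ∈ U, ∀ q ∈ U, br p q ∈ Subfield.closure {br p₀ q₀}) ∨
    ∃ (K : Subfield F) (g : SL2 F), 4 ≤ Nat.card K ∧ IsPlane K g U := by
  classical
  haveI := Fact.mk Nat.prime_two
  have h2 : (2 : F) = 0 := two_zero
  set π := QuotientGroup.mk' (Subgroup.center (SL2 F)) with hπ
  have hinj : Function.Injective π := mk_injective_two h2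
  have hmem : ∀ p ∈ U, refl2 p ∈ grp2 U := fun p hp => Subgroup.subset_closure ⟨p, hp, rfl⟩
  have heven : 2 ∣ Nat.card ((grp2 U).map π) := by
    rw [Subgroup.card_map_of_injective hinj]
    have : orderOf (⟨refl2 a, hmem a ha⟩ : grp2 U) = 2 := orderOf_eq_prime (Subtype.ext (by
      show refl2 a ^ 2 = 1
      rw [pow_two, refl2_mul_self])) fun h =>
        h0 a ha (refl2_injective ((congrArg Subtype.val h).trans refl2_zero.symm))
    have hd := orderOf_dvd_natCard (⟨refl2 a, hmem a ha⟩ : grp2 U)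
    rwa [this] at hd
  rcases psl_dickson_std 2 ((grp2 U).map π) with ⟨-, S, hS⟩ | ⟨h, -⟩ | ⟨n, hn2, hn, -, -, ⟨e⟩⟩ | ⟨h, -⟩ |
    ⟨h, -⟩ | ⟨R, m, u, -, -, hR | ⟨h, -⟩⟩
  · exfalso
    have hinv : ∀ g ∈ grp2 U, g * g = 1 → π g ∈ (S : Subgroup (PSL2 F)) := by
      intro g hg hg2
      have hz : IsPGroup 2 (Subgroup.zpowers (π g)) := by
        rintro ⟨w, i, rfl⟩
        refine ⟨1, Subtype.ext ?_⟩
        simp only [pow_one, Subgroup.coe_pow, Subgroup.coe_one]
        rw [← zpow_natCast, ← _root_.zpow_mul, mul_comm, _root_.zpow_mul, zpow_natCast, pow_two,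
          ← map_mul, hg2, map_one, _root_.one_zpow]
      have h1 := hz.inf_normalizer_sylow S
      have h3 : π g ∈ Subgroup.zpowers (π g) ⊓ Subgroup.normalizer ((S : Subgroup (PSL2 F)) : Set (PSL2 F)) :=
        ⟨Subgroup.mem_zpowers _, hS ⟨g, hg, rfl⟩⟩
      exact (Subgroup.mem_inf.1 (h1.le h3)).2
    obtain ⟨k, hk⟩ := S.isPGroup' ⟨_, mul_mem (hinv _ (hmem a ha) (refl2_mul_self a))
      (hinv _ (hmem b hb) (refl2_mul_self b))⟩
    have h1 : π ((refl2 a * refl2 b) ^ 2 ^ k) = 1 := by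
      rw [map_pow, map_mul]
      exact congrArg Subtype.val hk
    have h3 := congrArg tr (hinj (h1.trans (map_one π).symm))
    rw [tr_pow_two_pow h2, tr_refl2_mul, tr_one, h2, ← pow_mul] at h3
    exact hab (pow_eq_zero_iff (by positivity) |>.1 h3)
  · exact absurd heven h
  · exact Or.inl (of_dihedral hcl h0 ha hab hn hn2 ((Subgroup.equivMapOfInjective _ _ hinj).trans e))
  · exact absurd heven h
  · norm_num at h
  · obtain ⟨g, hg⟩ := of_subfield hcl h0 ha hR
    by_cases h4 : 4 ≤ Nat.card R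
    · exact Or.inr ⟨R, g, h4, hg⟩
    -- the field with two elements
    left
    have hR2 : ∀ x ∈ R, x = 0 ∨ x = 1 := by
      intro x hx
      haveI : CharP R 2 := (R.subtype).charP R.subtype.injective 2
      obtain ⟨k, hk, hkc⟩ := GLOrder.exists_card_eq_pow (F := R) 2
      rw [hkc] at h4
      have hk1 : k = 1 := by
        by_contra hne
        exact h4 (le_trans (by norm_num) (Nat.pow_le_pow_right two_pos (show 2 ≤ k by omega)))
      rw [hk1, pow_one] at hkc
      obtain ⟨y, z, hyz, huniv⟩ := Nat.card_eq_two_iff.1 hkc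
      have h01 : (0 : R) ≠ 1 := zero_ne_one
      have hx' : (⟨x, hx⟩ : R) ∈ ({y, z} : Set R) := huniv ▸ Set.mem_univ _
      have h0' : (0 : R) ∈ ({y, z} : Set R) := huniv ▸ Set.mem_univ _
      have h1' : (1 : R) ∈ ({y, z} : Set R) := huniv ▸ Set.mem_univ _
      simp only [Set.mem_insert_iff, Set.mem_singleton_iff] at hx' h0' h1'
      have : (⟨x, hx⟩ : R) = 0 ∨ (⟨x, hx⟩ : R) = 1 := by
        rcases hx' with e | e <;> rcases h0' with e0 | e0 <;> rcases h1' with e1 | e1 <;>
          first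
            | exact Or.inl (e.trans e0.symm)
            | exact Or.inr (e.trans e1.symm)
            | exact absurd (e0.trans e1.symm) h01
      exact this.imp (congrArg Subtype.val) (congrArg Subtype.val)
    let Q : (Fin 2 → F) → F := fun x =>
      (act2 g x) 0 ^ 2 + (act2 g x) 0 * (act2 g x) 1 + (act2 g x) 1 ^ 2
    refine ⟨Q, ⟨fun c x => ?_, fun x y => ?_⟩, fun p hp => ?_, a, ha, b, hb, fun p hp q hq => ?_⟩
    · simp only [Q, act2_smul, Pi.smul_apply, smul_eq_mul]; ring
    · rw [← br_mulVec g x y]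
      simp only [Q, act2_add, Pi.add_apply, br]
      linear_combination ((act2 g x) 0 * (act2 g y) 0 + (act2 g x) 1 * (act2 g y) 1) * h2
    · obtain ⟨hp0, hpR⟩ := (hg p).1 hp
      have hne : act2 g p ≠ 0 := fun e => hp0 (by
        rw [← act2_inv g p, e, act2, Matrix.mulVec_zero])
      rcases hR2 _ (hpR 0) with e0 | e0 <;> rcases hR2 _ (hpR 1) with e1 | e1
      · exact absurd (funext fun i => by fin_cases i <;> assumption) hne
      all_goals simp only [Q, e0, e1]; ring_nf
      linear_combination h2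
    · rw [← br_mulVec g p q]
      have hval : br (act2 g p) (act2 g q) ∈ R :=
        add_mem (mul_mem ((hg p).1 hp |>.2 0) ((hg q).1 hq |>.2 1))
          (mul_mem ((hg p).1 hp |>.2 1) ((hg q).1 hq |>.2 0))
      rcases hR2 _ hval with e | e <;> rw [e]
      · exact zero_mem _
      · exact one_mem _
  · exact absurd rfl h

end Main

end Cfsg.Agent.SpFourRes.Transv
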