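import Cfsg.Agent.Lib.SpFourRes.Transv.Setting

/-!
Quadratic maps with polar form the standard one, characteristic two.

* `IsQuad.eq_on_span`, `IsQuad.tg_eq` (reflections preserve the map), `exists_quad_step`
-/

set_option autoImplicit false

namespace Cfsg.Agent.SpFourRes.Transv

open Matrix

variable {F : Type*} [Field F]

lemma _root_.Cfsg.Agent.SpFourRes.IsQuad.map_zero {Q : Vec F → F} (hQ : IsQuad Q) : Q 0 = 0 := by
  simpa using hQ.smul 0 0

/-- A standard quadratic map with polar the standard form. -/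
def quad₀ (x : Vec F) : F :=
  x (Sum.inl 0) * x (Sum.inr 0) + x (Sum.inl 1) * x (Sum.inr 1)

lemma sf_expand [CharP F 2] (x y : Vec F) : sf x y = x (Sum.inl 0) * y (Sum.inr 0) +
    x (Sum.inr 0) * y (Sum.inl 0) + x (Sum.inl 1) * y (Sum.inr 1) + x (Sum.inr 1) * y (Sum.inl 1) := by
  simp only [sf, Cfsg.sympForm, Matrix.mulVec, dotProduct, Matrix.J, Fintype.sum_sum_type, Fin.sum_univ_two,
    Matrix.fromBlocks_apply₁₁, Matrix.fromBlocks_apply₁₂, Matrix.fromBlocks_apply₂₁, Matrix.fromBlocks_apply₂₂,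
    Matrix.zero_apply, Matrix.neg_apply, Matrix.one_apply, CharTwo.neg_eq]
  simp
  ring

lemma isQuad_quad₀ [CharP F 2] : IsQuad (quad₀ (F := F)) := by
  refine ⟨fun c x => ?_, fun x y => ?_⟩
  · simp [quad₀]; ring
  · rw [sf_expand]; simp [quad₀]; ring

/-- Adding the square of a linear function. -/
lemma _root_.Cfsg.Agent.SpFourRes.IsQuad.add_sq [CharP F 2] {Q : Vec F → F} (hQ : IsQuad Q) (l : Vec F →ₗ[F] F) :
    IsQuad fun x => Q x + l x ^ 2 := by
  refine ⟨fun c x => ?_, fun x y => ?_⟩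
  · rw [hQ.smul, map_smul, smul_eq_mul]; ring
  · rw [hQ.add, map_add, CharTwo.add_sq]; ring

/-- A quadratic map may be changed outside a subspace. -/
lemma exists_quad_step [CharP F 2] [Finite F] {Q : Vec F → F} (hQ : IsQuad Q) (S : Submodule F (Vec F))
    {z : Vec F} (hz : z ∉ S) (c : F) : ∃ Q', IsQuad Q' ∧ (∀ x ∈ S, Q' x = Q x) ∧ Q' z = c := by
  obtain ⟨φ, hφ, hφz⟩ := Transvect.exists_dual_eq_one hz
  obtain ⟨s, hs⟩ := (bijective_frobenius F 2).2 (c + Q z)
  rw [frobenius_def] at hs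
  refine ⟨fun x => Q x + (s • φ) x ^ 2, hQ.add_sq _, fun x hx => by simp [hφ x hx], ?_⟩
  show Q z + (s * φ z) ^ 2 = c
  rw [hφz, mul_one, hs, add_comm c, ← add_assoc, CharTwo.add_self_eq_zero, zero_add]

lemma _root_.Cfsg.Agent.SpFourRes.IsQuad.tg_eq [CharP F 2] {Q : Vec F → F} (hQ : IsQuad Q) {u : Vec F} (hu : Q u = 1) (x : Vec F) :
    Q (x + sf x u • u) = Q x := by
  rw [hQ.add, hQ.smul, hu, sf_smul_right, mul_one, ← pow_two, add_assoc, CharTwo.add_self_eq_zero, add_zero]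

lemma _root_.Cfsg.Agent.SpFourRes.IsQuad.eq_on_span {Q Q' : Vec F → F} (hQ : IsQuad Q) (hQ' : IsQuad Q') {s : Set (Vec F)}
    (h : ∀ x ∈ s, Q x = Q' x) {x : Vec F} (hx : x ∈ Submodule.span F s) : Q x = Q' x := by
  induction hx using Submodule.span_induction with
  | mem x hx => exact h x hx
  | zero => rw [IsQuad.map_zero hQ, IsQuad.map_zero hQ']
  | add x y _ _ ihx ihy => rw [hQ.add, hQ'.add, ihx, ihy]
  | smul c x _ ih => rw [hQ.smul, hQ'.smul, ih]

end Cfsg.Agent.SpFourRes.Transv
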