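import Cfsg.Agent.Lib.SpFourRes.Transv.Three

/-!
Two proportional transvection vectors: the values of the form lie in a subfield, or the group is `Sp₄(F)`.

* `collinear_pair`, `eq_spGL_of_all_smul`, `of_collinear`
-/

set_option autoImplicit false
set_option linter.unusedSectionVars false

namespace Cfsg.Agent.SpFourRes.Transv

open Matrix

variable {F : Type*} [Field F] [CharP F 2] [Fintype F] {G : Subgroup (GL (Fin 2 ⊕ Fin 2) F)}

/-- A pair with a proportional vector fills a plane over a subfield. -/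
lemma collinear_pair (H : Gen G) {a b : Vec F} (ha : a ∈ tvecs G) (hb : b ∈ tvecs G) (hab : sf a b ≠ 0)
    {c : F} (hc : c ≠ 1) (hca : c • a ∈ tvecs G) :
    ∃ K : Subfield F, 4 ≤ Nat.card K ∧ sf a b ∈ K ∧ (∀ k : F, k • a ∈ tvecs G ↔ k ≠ 0 ∧ k ∈ K) ∧
      (∀ k : F, k • b ∈ tvecs G ↔ k ≠ 0 ∧ k ∈ K) ∧ a + b ∈ tvecs G := by
  set S := Submodule.span F ({a, b} : Set (Vec F)) with hS
  have hG : Good a b S := good_pair hab
  have hc0 : c ≠ 0 := fun h => hca.1 (by rw [h, zero_smul])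
  have hcaS : c • a ∈ S := Submodule.smul_mem _ _ hG.mem_a
  have hpa := proj_a (a := a) (b := b) hab
  rcases cases H hG ha hb with ⟨hq, -⟩ | ⟨K, g, hK, hpl⟩
  · exfalso
    have h1 : proj a b (c • a) ≠ 0 := by
      rw [map_smul, hpa]
      exact smul_ne_zero hc0 fun h => one_ne_zero (show (1 : F) = 0 by simpa using congrFun h 0)
    have h2 := hq _ (mem_img hca hcaS h1)
    rw [map_smul, hpa] at h2
    simp [qab] at h2
    exact hc (h2.resolve_right (by rw [CharTwo.neg_eq]; exact hc))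
  have hinj : ∀ x ∈ S, proj a b x = 0 → x = 0 := fun x hx h0 => by
    have hx' : x ∈ Submodule.span F ({a, b, 0} : Set (Vec F)) :=
      Submodule.span_mono (by intro z; simp; tauto) hx
    obtain ⟨γ, hγ⟩ := eq_smul_of_proj_eq_zero hab (sf_zero_right a) (sf_zero_right b) hx' h0
    rw [hγ, smul_zero]
  have hiff : ∀ x ∈ S, x ∈ tvecs G ↔ x ≠ 0 ∧ ∀ i, act2 g (proj a b x) i ∈ K := by
    intro x hx
    constructor
    · exact fun h => ⟨h.1, ((hpl _).1 (mem_img h hx fun h0 => h.1 (hinj x hx h0))).2⟩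
    · rintro ⟨hx0, hxK⟩
      obtain ⟨-, u, hu, huS, he⟩ := (hpl _).2 ⟨fun h0 => hx0 (hinj x hx h0), hxK⟩
      have := hinj _ (add_mem huS hx) (by rw [map_add, he]; exact funext fun i => add_self _)
      rwa [← funext fun i => CharTwo.add_eq_zero.1 (congrFun this i)]
  have hline : ∀ x ∈ S, x ∈ tvecs G → ∀ k : F, k • x ∈ tvecs G ↔ k ≠ 0 ∧ k ∈ K := by
    intro x hx hxU k
    obtain ⟨hx0, hxK⟩ := (hiff x hx).1 hxU
    obtain ⟨i, hi⟩ : ∃ i, act2 g (proj a b x) i ≠ 0 := by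
      by_contra h
      push Not at h
      exact act2_ne_zero g (fun h0 => hx0 (hinj x hx h0)) (funext h)
    rw [hiff _ (Submodule.smul_mem _ _ hx), map_smul, act2_smul]
    constructor
    · rintro ⟨hk, hkK⟩
      refine ⟨fun h => hk (by rw [h, zero_smul]), ?_⟩
      have := div_mem (hkK i) (hxK i)
      simp only [Pi.smul_apply, smul_eq_mul, mul_div_assoc, div_self hi, mul_one] at this
      exact this
    · rintro ⟨hk0, hkK⟩
      exact ⟨smul_ne_zero hk0 hx0, fun j => K.mul_mem hkK (hxK j)⟩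
  refine ⟨K, hK, ?_, hline a hG.mem_a ha, hline b hG.mem_b hb, ?_⟩
  · obtain ⟨-, hA⟩ := (hiff a hG.mem_a).1 ha
    obtain ⟨-, hB⟩ := (hiff b hG.mem_b).1 hb
    rw [hG.sf_eq a hG.mem_a b hG.mem_b, ← br_mulVec g]
    exact add_mem (mul_mem (hA 0) (hB 1)) (mul_mem (hA 1) (hB 0))
  · refine (hiff _ (add_mem hG.mem_a hG.mem_b)).2 ⟨fun h => hab ?_, fun i => ?_⟩
    · rw [show a = b from funext fun i => CharTwo.add_eq_zero.1 (congrFun h i), sf_self]
    · rw [map_add, act2_add]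
      exact add_mem (((hiff a hG.mem_a).1 ha).2 i) (((hiff b hG.mem_b).1 hb).2 i)

/-- Every nonzero multiple of every vector gives `Sp₄(F)`. -/
theorem eq_spGL_of_all_smul (hq : 4 ≤ Fintype.card F) (H : Gen G)
    (hsmul : ∀ u ∈ tvecs G, ∀ k : F, k ≠ 0 → k • u ∈ tvecs G)
    (hpair : ∀ u ∈ tvecs G, ∀ w ∈ tvecs G, sf u w ≠ 0 → u + w ∈ tvecs G) : G = Cfsg.spGL 2 F := by
  classical
  have havoid : ∀ e : F, ∃ k : F, k ≠ 0 ∧ k ≠ e := fun e => by
    by_contra h
    push Not at h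
    have h1 : Fintype.card F ≤ ({0, e} : Finset F).card := by
      rw [← Finset.card_univ]
      exact Finset.card_le_card fun x _ => by
        by_cases hx : x = 0
        · simp [hx]
        · simp [h x hx]
    exact absurd (h1.trans (Finset.card_le_two)) (by omega)
  have hcommon : ∀ u ∈ tvecs G, ∀ w ∈ tvecs G, ∃ y ∈ tvecs G, sf u y ≠ 0 ∧ sf w y ≠ 0 := by
    intro u hu
    obtain ⟨y₀, hy₀, hne⟩ := H.neighbour hu
    refine H.connected_induction _ hu ⟨y₀, hy₀, hne, hne⟩ ?_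
    rintro z hz w hw ⟨y, hy, huy, hzy⟩ hzw
    by_cases h1 : sf u z = 0
    swap
    · exact ⟨z, hz, h1, by rwa [sf_comm]⟩
    by_cases h2 : sf w y = 0
    swap
    · exact ⟨y, hy, huy, h2⟩
    exact ⟨z + y, hpair z hz y hy hzy, by rwa [sf_add_right, h1, zero_add],
      by rwa [sf_add_right, h2, add_zero, sf_comm]⟩
  -- a common neighbour with different values gives the sum
  have hdiff : ∀ u ∈ tvecs G, ∀ w ∈ tvecs G, sf u w = 0 → ∀ y ∈ tvecs G, sf u y ≠ 0 → sf w y ≠ 0 →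
      sf u y ≠ sf w y → u + w ∈ tvecs G := by
    intro u hu w hw h0 y hy h1 h2 h3
    have m1 := hpair u hu y hy h1
    have m2 := hpair _ m1 w hw (by rwa [sf_add_left, h0, zero_add, sf_comm])
    have m3 := hpair _ m2 y hy (by
      rw [sf_add_left, sf_add_left, sf_self, add_zero]
      exact fun h => h3 (CharTwo.add_eq_zero.1 h))
    have e : u + y + w + y = u + w := funext fun i => by
      simp only [Pi.add_apply]; linear_combination y i * (two_zero (F := F))
    rwa [e] at m3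
  have haux : ∀ u ∈ tvecs G, ∀ w ∈ tvecs G, sf u w = 0 → ∀ y ∈ tvecs G, sf u y ≠ 0 → sf w y = sf u y →
      ∀ y₂ ∈ tvecs G, sf u y₂ = 0 → sf w y₂ ≠ 0 → u + w ∈ tvecs G := by
    intro u hu w hw h0 y hy h1 h2 y₂ hy₂ h3 h4
    obtain ⟨l, hl0, hl⟩ := havoid (sf y₂ y / sf u y)
    have hv : l • w + y₂ ∈ tvecs G := hpair _ (hsmul w hw l hl0) y₂ hy₂ (by
      rw [sf_smul_left]; exact mul_ne_zero hl0 h4)
    have hvy : sf (l • w + y₂) y ≠ 0 := by
      rw [sf_add_left, sf_smul_left, h2]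
      exact fun h => hl (by rw [eq_div_iff h1]; exact CharTwo.add_eq_zero.1 h)
    obtain ⟨k, hk0, hk⟩ := havoid (sf w y₂ / sf u y)
    have hv' := hpair _ hv _ (hsmul y hy k hk0) (by rw [sf_smul_right]; exact mul_ne_zero hk0 hvy)
    have e1 : sf u (l • w + y₂ + k • y) = k * sf u y := by
      simp [sf_add_right, sf_smul_right, h0, h3]
    have e2 : sf w (l • w + y₂ + k • y) = sf w y₂ + k * sf u y := by
      simp [sf_add_right, sf_smul_right, sf_self, h2]
    refine hdiff u hu w hw h0 _ hv' ?_ ?_ ?_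
    · rw [e1]; exact mul_ne_zero hk0 h1
    · rw [e2]; exact fun h => hk (by rw [eq_div_iff h1]; exact (CharTwo.add_eq_zero.1 h).symm)
    · rw [e1, e2]; exact fun h => h4 (by linear_combination -h)
  have hadd : ∀ u ∈ tvecs G, ∀ w ∈ tvecs G, u + w ≠ 0 → u + w ∈ tvecs G := by
    intro u hu w hw hne
    by_cases h0 : sf u w = 0
    swap
    · exact hpair u hu w hw h0
    obtain ⟨y, hy, h1, h2⟩ := hcommon u hu w hw
    by_cases h3 : sf u y = sf w y
    swap
    · exact hdiff u hu w hw h0 y hy h1 h2 h3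
    obtain ⟨y₂, hy₂, h4⟩ := H.exists_ne hne
    rw [sf_add_left] at h4
    by_cases h5 : sf u y₂ = 0
    · exact haux u hu w hw h0 y hy h1 h3.symm y₂ hy₂ h5 (by rwa [h5, zero_add] at h4)
    by_cases h6 : sf w y₂ = 0
    · rw [add_comm]
      exact haux w hw u hu (by rwa [sf_comm]) y hy h2 h3 y₂ hy₂ h6 h5
    exact hdiff u hu w hw h0 y₂ hy₂ h5 h6 fun h => h4 (by rw [h]; exact add_self _)
  let W : Submodule F (Vec F) :=
    { carrier := {x | x = 0 ∨ x ∈ tvecs G}
      zero_mem' := Or.inl rfl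
      add_mem' := by
        rintro x y (rfl | hx) hy
        · rw [zero_add]; exact hy
        rcases hy with rfl | hy
        · rw [add_zero]; exact Or.inr hx
        by_cases h : x + y = 0
        · exact Or.inl h
        · exact Or.inr (hadd x hx y hy h)
      smul_mem' := by
        rintro c x hx
        rcases eq_or_ne c 0 with rfl | hc
        · exact Or.inl (zero_smul F x)
        rcases hx with rfl | hx
        · exact Or.inl (smul_zero c)
        · exact Or.inr (hsmul x hx c hc) }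
  have hW : W = ⊤ := top_le_iff.1 (H.span_tvecs ▸ Submodule.span_le.2 fun u hu => Or.inr hu)
  refine le_antisymm H.le_sp (Transvect.spGL_le_of_centres G fun v c => ?_)
  obtain ⟨s, hs⟩ := (bijective_frobenius F 2).2 c
  rw [frobenius_def] at hs
  have e : Transvect.st (Transvect.sympForm_isSymplectic 2) v c = tg (s • v) := Transvect.gl_ext fun x => by
    rw [Transvect.st_apply, Transvect.app_apply, tg_apply, sf_smul_right, smul_smul, ← hs]
    congr 2; ring
  rw [e]
  rcases (hW ▸ Submodule.mem_top : s • v ∈ W) with h | h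
  · rw [h, show tg (0 : Vec F) = 1 from Transvect.gl_ext fun x => by
      rw [Transvect.app_apply, tg_apply, Transvect.app_apply, smul_zero, add_zero, Units.val_one,
        Matrix.one_mulVec]]
    exact one_mem G
  · exact tg_mem h

/-- Two proportional vectors. -/
theorem of_collinear (hq : 4 ≤ Fintype.card F) (H : Gen G) (h : ¬ NoCollinear G) :
    G = Cfsg.spGL 2 F ∨ ∃ K : Subfield F, K ≠ ⊤ ∧ ∀ u ∈ tvecs G, ∀ v ∈ tvecs G, sf u v ∈ K := by
  simp only [NoCollinear, not_forall] at h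
  obtain ⟨u₀, hu₀, c₀, hc₀, hc1⟩ := h
  obtain ⟨w₀, hw₀, hne₀⟩ := H.neighbour hu₀
  obtain ⟨K, hK, -, hKu, -, -⟩ := collinear_pair H hu₀ hw₀ hne₀ hc1 hc₀
  obtain ⟨c, hc, hcne⟩ : ∃ c : F, (c ∈ K ∧ c ≠ 0) ∧ c ≠ 1 := by
    obtain ⟨k, hk, hk0, hgen⟩ := exists_generator' K
    refine ⟨k, ⟨hk, hk0⟩, ?_⟩
    rintro rfl
    have hle : K ≤ Subfield.closure {(1 : F)} := hgen
    have hbot : Subfield.closure {(1 : F)} = ⊥ := le_antisymm
      (Subfield.closure_le.2 fun x hx => by rw [hx]; exact one_mem _) bot_le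
    rw [hbot, le_bot_iff] at hle
    have h2 : Nat.card (⊥ : Subfield F) = 2 := Subfield.card_bot F 2
    rw [hle, h2] at hK
    omega
  have hall : ∀ u ∈ tvecs G, ∀ k : F, k • u ∈ tvecs G ↔ k ≠ 0 ∧ k ∈ K := by
    refine H.connected_induction _ hu₀ hKu fun u hu w hw hP hne => ?_
    obtain ⟨L, -, -, hLu, hLw, -⟩ := collinear_pair H hu hw hne hcne ((hP c).2 ⟨hc.2, hc.1⟩)
    intro k
    rw [hLw k, ← hLu k, hP k]
  have hval : ∀ u ∈ tvecs G, ∀ w ∈ tvecs G, sf u w ∈ K ∧ (sf u w ≠ 0 → u + w ∈ tvecs G) := by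
    intro u hu w hw
    rcases eq_or_ne (sf u w) 0 with h0 | hne
    · exact ⟨h0 ▸ zero_mem K, fun h => absurd h0 h⟩
    obtain ⟨L, -, hτ, hLu, -, hadd⟩ := collinear_pair H hu hw hne hcne ((hall u hu c).2 ⟨hc.2, hc.1⟩)
    refine ⟨?_, fun _ => hadd⟩
    have := (hLu (sf u w)).2 ⟨hne, hτ⟩
    exact ((hall u hu _).1 this).2
  by_cases hKT : K = ⊤
  · refine Or.inl (eq_spGL_of_all_smul hq H (fun u hu k hk => (hall u hu k).2 ⟨hk, ?_⟩)
      fun u hu w hw hne => (hval u hu w hw).2 hne)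
    rw [hKT]
    exact Subfield.mem_top _
  · exact Or.inr ⟨K, hKT, fun u hu v hv => (hval u hu v hv).1⟩

end Cfsg.Agent.SpFourRes.Transv
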