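import Cfsg.Agent.Lib.SpFourRes.Basic

/-!
Irreducible subgroups of `Sp₄(F)` generated by transvections, characteristic two: first properties.

* `tg u` : the transvection with vector `u`; `Gen G` : the hypotheses on `G`
* `tg_mem`, `tvec_smul`, `tvec_step`, `gen_invariant`, `span_tvecs`, `connected_induction`
-/

set_option autoImplicit false

namespace Cfsg.Agent.SpFourRes.Transv

open Matrix

variable {F : Type*} [Field F]

lemma sf_add_left (x y z : Vec F) : sf (x + y) z = sf x z + sf y z := isSymp.bilinear.add_left x y z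

lemma sf_add_right (x y z : Vec F) : sf x (y + z) = sf x y + sf x z := isSymp.bilinear.add_right x y z

lemma sf_smul_left (c : F) (x y : Vec F) : sf (c • x) y = c * sf x y := isSymp.bilinear.smul_left c x y

lemma sf_smul_right (c : F) (x y : Vec F) : sf x (c • y) = c * sf x y := isSymp.bilinear.smul_right c x y

lemma sf_self (x : Vec F) : sf x x = 0 := isSymp.alternating x

lemma sf_zero_left (x : Vec F) : sf 0 x = 0 := by
  simpa using sf_smul_left (0 : F) 0 x

lemma sf_zero_right (x : Vec F) : sf x 0 = 0 := by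
  simpa using sf_smul_right (0 : F) x 0

lemma sf_comm [CharP F 2] (x y : Vec F) : sf x y = sf y x := by
  rw [show sf x y = -sf y x from isSymp.skew x y, CharTwo.neg_eq]

lemma vec_add_self [CharP F 2] (x : Vec F) : x + x = 0 := funext fun i => CharTwo.add_self_eq_zero (x i)

lemma exists_sf_ne {x : Vec F} (hx : x ≠ 0) : ∃ y, sf y x ≠ 0 := (isSymp.nondegenerate x hx).1

/-- The subspace orthogonal to a set. -/
def orth (s : Set (Vec F)) : Submodule F (Vec F) where
  carrier := {x | ∀ y ∈ s, sf x y = 0}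
  add_mem' {a b} ha hb y hy := by rw [sf_add_left, ha y hy, hb y hy, add_zero]
  zero_mem' y _ := sf_zero_left y
  smul_mem' c a ha y hy := by rw [sf_smul_left, ha y hy, mul_zero]

/-- The transvection with vector `u`. -/
noncomputable def tg (u : Vec F) : GL (Fin 2 ⊕ Fin 2) F := Transvect.st isSymp u 1

lemma tg_apply (u x : Vec F) : (tg u).1 *ᵥ x = x + sf x u • u := by
  rw [← Transvect.app_apply, tg, Transvect.st_apply, one_mul]

lemma isTvec_tg (u : Vec F) : IsTvec (tg u) u := tg_apply u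

lemma eq_tg {g : GL (Fin 2 ⊕ Fin 2) F} {u : Vec F} (h : IsTvec g u) : g = tg u :=
  Transvect.gl_ext fun x => by rw [Transvect.app_apply, Transvect.app_apply, h x, tg_apply]

lemma tg_mem_sp (u : Vec F) : tg u ∈ Cfsg.spGL 2 F :=
  Transvect.mem_spGL_iff.2 (Transvect.st_isIsom _ u 1)

lemma sp_sf {g : GL (Fin 2 ⊕ Fin 2) F} (hg : g ∈ Cfsg.spGL 2 F) (x y : Vec F) :
    sf (g.1 *ᵥ x) (g.1 *ᵥ y) = sf x y := hg x y

lemma tg_conj {g : GL (Fin 2 ⊕ Fin 2) F} (hg : g ∈ Cfsg.spGL 2 F) (u : Vec F) :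
    g * tg u * g⁻¹ = tg (g.1 *ᵥ u) :=
  Transvect.st_conj _ (Transvect.mem_spGL_iff.1 hg) u 1

lemma tg_injective [CharP F 2] {u v : Vec F} (hu : u ≠ 0) (h : tg u = tg v) : u = v := by
  obtain ⟨x, hx⟩ := exists_sf_ne hu
  have h1 : ∀ y, sf y u • u = sf y v • v := fun y => by
    have := tg_apply u y
    rw [h, tg_apply v y] at this
    exact (add_left_cancel this).symm
  have hu' : u = (sf x v / sf x u) • v := by
    rw [div_eq_inv_mul, ← smul_smul, ← h1 x, smul_smul, inv_mul_cancel₀ hx, one_smul]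
  set c := sf x v / sf x u with hc
  have hv : sf x v = c * sf x u := by rw [hc, div_mul_cancel₀ _ hx]
  have h2 : sf x u = c * sf x v := by
    conv_lhs => rw [hu', sf_smul_right]
  have hc2 : (c + 1) ^ 2 = 0 := by
    have : (c ^ 2 - 1) * sf x u = 0 := by rw [hv] at h2; linear_combination -h2
    have h3 := (mul_eq_zero.1 this).resolve_right hx
    linear_combination h3 + (c + 1) * CharTwo.two_eq_zero (R := F)
  have : c = 1 := CharTwo.add_eq_zero.1 (pow_eq_zero_iff two_ne_zero |>.1 hc2)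
  rw [hu', this, one_smul]

/-- An irreducible subgroup of `Sp₄(F)` generated by transvections. -/
structure Gen (G : Subgroup (GL (Fin 2 ⊕ Fin 2) F)) : Prop where
  le_sp : G ≤ Cfsg.spGL 2 F
  irr : Cfsg.Geo.ActsIrreducibly (Cfsg.Geo.matrixSet G)
  gen : G = Subgroup.closure {g | g ∈ G ∧ ∃ u, IsTvec g u}

variable {G : Subgroup (GL (Fin 2 ⊕ Fin 2) F)}

lemma tvec_ne_zero {u : Vec F} (hu : u ∈ tvecs G) : u ≠ 0 := hu.1

lemma tg_mem {u : Vec F} (hu : u ∈ tvecs G) : tg u ∈ G := by
  obtain ⟨g, hg, h⟩ := hu.2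
  exact eq_tg h ▸ hg

lemma mem_tvecs {u : Vec F} (hu : u ≠ 0) (h : tg u ∈ G) : u ∈ tvecs G := ⟨hu, tg u, h, isTvec_tg u⟩

lemma mulVec_ne_zero (g : GL (Fin 2 ⊕ Fin 2) F) {u : Vec F} (hu : u ≠ 0) : g.1 *ᵥ u ≠ 0 := fun h =>
  hu ((Transvect.app g).injective (by rw [Transvect.app_apply, h, map_zero]))

lemma Gen.image_mem (H : Gen G) {g : GL (Fin 2 ⊕ Fin 2) F} (hg : g ∈ G) {u : Vec F} (hu : u ∈ tvecs G) :
    g.1 *ᵥ u ∈ tvecs G := by
  refine mem_tvecs (mulVec_ne_zero g hu.1) ?_
  rw [← tg_conj (H.le_sp hg)]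
  exact mul_mem (mul_mem hg (tg_mem hu)) (inv_mem hg)

lemma Gen.step (H : Gen G) {u w : Vec F} (hu : u ∈ tvecs G) (hw : w ∈ tvecs G) :
    w + sf w u • u ∈ tvecs G := by
  rw [← tg_apply]; exact H.image_mem (tg_mem hu) hw

/-- A subspace preserved by every transvection of `G` is trivial. -/
lemma Gen.invariant (H : Gen G) (W : Submodule F (Vec F))
    (h : ∀ u ∈ tvecs G, ∀ x ∈ W, x + sf x u • u ∈ W) : W = ⊥ ∨ W = ⊤ := by
  refine H.irr W ?_
  rintro _ ⟨g, hg, rfl⟩ _ ⟨x, hx, rfl⟩
  have hle : G ≤ Cfsg.Geo.subspaceStabilizer W := by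
    rw [H.gen, Subgroup.closure_le]
    rintro t ⟨ht, u, hu⟩
    refine Transvect.mem_stab_of_le fun w hw => ?_
    rw [Transvect.app_apply, hu w]
    by_cases h0 : u = 0
    · subst h0; simpa using hw
    · exact h u ⟨h0, t, ht, hu⟩ w hw
  rw [Matrix.toLin'_apply]
  exact (hle hg x).1 hx

lemma ne_bot_top : (⊥ : Submodule F (Vec F)) ≠ ⊤ := bot_ne_top

lemma span_single_ne_top (x : Vec F) : Submodule.span F {x} ≠ ⊤ := by
  intro h
  have h1 : Module.finrank F (Submodule.span F {x}) ≤ 1 := finrank_span_le_card {x} |>.trans (by simp)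
  rw [h, finrank_top, Module.finrank_fintype_fun_eq_card] at h1
  simp at h1

lemma Gen.tvecs_nonempty (H : Gen G) : (tvecs G).Nonempty := by
  by_contra h
  rw [Set.not_nonempty_iff_eq_empty] at h
  have := H.invariant (Submodule.span F {Pi.single (Sum.inl 0) 1}) (fun u hu => by rw [h] at hu; exact hu.elim)
  rcases this with e | e
  · rw [Submodule.span_singleton_eq_bot, Pi.single_eq_zero_iff] at e
    exact one_ne_zero e
  · exact span_single_ne_top _ e

lemma Gen.span_tvecs (H : Gen G) : Submodule.span F (tvecs G) = ⊤ := by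
  refine (H.invariant _ fun u hu x hx =>
    add_mem hx (Submodule.smul_mem _ _ (Submodule.subset_span hu))).resolve_left fun h => ?_
  obtain ⟨u, hu⟩ := H.tvecs_nonempty
  have := Submodule.subset_span (R := F) hu
  rw [h] at this
  exact hu.1 (by simpa using this)

lemma Gen.exists_ne (H : Gen G) {x : Vec F} (hx : x ≠ 0) : ∃ u ∈ tvecs G, sf x u ≠ 0 := by
  by_contra hno
  push Not at hno
  obtain ⟨y, hy⟩ := exists_sf_ne hx
  have h1 : (y : Vec F) ∈ orth {x} := by
    have hle : Submodule.span F (tvecs G) ≤ orth {x} := Submodule.span_le.2 fun u hu z hz => by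
      rw [Set.mem_singleton_iff] at hz
      rw [hz, show sf u x = -sf x u from isSymp.skew u x, hno u hu, neg_zero]
    exact hle (H.span_tvecs ▸ Submodule.mem_top)
  exact hy (h1 x rfl)

/-- Non-orthogonality connects the transvection vectors. -/
lemma Gen.connected_induction (H : Gen G) (P : Vec F → Prop) {u₀ : Vec F} (hu₀ : u₀ ∈ tvecs G) (h0 : P u₀)
    (hstep : ∀ u ∈ tvecs G, ∀ w ∈ tvecs G, P u → sf u w ≠ 0 → P w) : ∀ w ∈ tvecs G, P w := by
  have hinv : Submodule.span F {u | u ∈ tvecs G ∧ P u} = ⊤ := by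
    refine (H.invariant _ fun w hw x hx => ?_).resolve_left fun h => ?_
    · by_cases hPw : P w
      · exact add_mem hx (Submodule.smul_mem _ _ (Submodule.subset_span ⟨hw, hPw⟩))
      · have h1 : Submodule.span F {u | u ∈ tvecs G ∧ P u} ≤ orth {w} := Submodule.span_le.2 fun u hu z hz => by
          rw [Set.mem_singleton_iff] at hz
          subst hz
          by_contra hne
          exact hPw (hstep u hu.1 z hw hu.2 hne)
        rw [h1 hx w rfl, zero_smul, add_zero]
        exact hx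
    · have := Submodule.subset_span (R := F) (s := {u | u ∈ tvecs G ∧ P u}) ⟨hu₀, h0⟩
      rw [h] at this
      exact hu₀.1 (by simpa using this)
  intro w hw
  by_contra hPw
  have h1 : Submodule.span F {u | u ∈ tvecs G ∧ P u} ≤ orth {w} := Submodule.span_le.2 fun u hu z hz => by
    rw [Set.mem_singleton_iff] at hz
    subst hz
    by_contra hne
    exact hPw (hstep u hu.1 z hw hu.2 hne)
  obtain ⟨y, hy⟩ := exists_sf_ne hw.1
  exact hy (h1 (hinv ▸ Submodule.mem_top) w rfl)

lemma Gen.neighbour (H : Gen G) {u : Vec F} (hu : u ∈ tvecs G) : ∃ w ∈ tvecs G, sf u w ≠ 0 := H.exists_ne hu.1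

end Cfsg.Agent.SpFourRes.Transv
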