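import Cfsg.Agent.Lib.SpFourRes.Transv.Pair
import Cfsg.Agent.Lib.SpFourRes.Transv.Quad

/-!
The transvection vectors inside a plane or a degenerate three-space, characteristic two.

* `proj a b`, `Good a b S`, `img`
* `cases` : the projections lie on the conic through `a`, `b`, or fill a plane over a subfield
* `exists_values` : the form values are generated by one of them
* `full_lift_unique`, `quad3` : without two proportional vectors the vectors off the radical lie on one quadric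
-/

set_option autoImplicit false
set_option linter.unusedSectionVars false
set_option linter.style.haveILetI false

namespace Cfsg.Agent.SpFourRes.Transv

open Matrix

variable {F : Type*} [Field F]

/-- Coordinates modulo `⟨a, b⟩^⊥`, scaled so that `br` is the form. -/
noncomputable def proj (a b : Vec F) : Vec F →ₗ[F] (Fin 2 → F) where
  toFun x := ![sf x b / sf a b, sf x a]
  map_add' x y := by ext i; fin_cases i <;> simp [sf_add_left, add_div]
  map_smul' c x := by ext i; fin_cases i <;> simp [sf_smul_left, mul_div_assoc]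

/-- The conic through `(1, 0)` and `(0, τ)`. -/
def qab (τ : F) (p : Fin 2 → F) : F := p 0 ^ 2 + p 1 ^ 2 / τ ^ 2 + p 0 * p 1

/-- `S` contains `a`, `b` and the form on it is pulled back by `proj a b`. -/
structure Good (a b : Vec F) (S : Submodule F (Vec F)) : Prop where
  ne : sf a b ≠ 0
  mem_a : a ∈ S
  mem_b : b ∈ S
  sf_eq : ∀ x ∈ S, ∀ y ∈ S, sf x y = br (proj a b x) (proj a b y)

/-- The nonzero projections of the transvection vectors in `S`. -/
def img (G : Subgroup (GL (Fin 2 ⊕ Fin 2) F)) (a b : Vec F) (S : Submodule F (Vec F)) : Set (Fin 2 → F) :=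
  {p | p ≠ 0 ∧ ∃ u ∈ tvecs G, u ∈ S ∧ proj a b u = p}

/-- No two proportional transvection vectors. -/
def NoCollinear (G : Subgroup (GL (Fin 2 ⊕ Fin 2) F)) : Prop :=
  ∀ u ∈ tvecs G, ∀ c : F, c • u ∈ tvecs G → c = 1

variable [CharP F 2] {G : Subgroup (GL (Fin 2 ⊕ Fin 2) F)} {a b r : Vec F} {S : Submodule F (Vec F)}

lemma proj_a (hab : sf a b ≠ 0) : proj a b a = ![1, 0] := by
  ext i; fin_cases i <;> simp [proj, sf_self, hab]

lemma proj_b : proj a b b = ![0, sf a b] := by
  ext i; fin_cases i <;> simp [proj, sf_self, sf_comm b a]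

lemma proj_comb (hab : sf a b ≠ 0) (har : sf a r = 0) (hbr : sf b r = 0) (α β γ : F) :
    proj a b (α • a + β • b + γ • r) = ![α, β * sf a b] := by
  ext i
  fin_cases i <;> simp [proj, sf_add_left, sf_smul_left, sf_self, sf_comm b a, sf_comm r, har, hbr, hab]

lemma mem_triple {x : Vec F} (hx : x ∈ Submodule.span F ({a, b, r} : Set (Vec F))) :
    ∃ α β γ : F, x = α • a + β • b + γ • r := by
  obtain ⟨α, y, hy, rfl⟩ := Submodule.mem_span_insert.1 hx
  obtain ⟨β, γ, rfl⟩ := Submodule.mem_span_pair.1 hy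
  exact ⟨α, β, γ, by rw [add_assoc]⟩

lemma good_three (hab : sf a b ≠ 0) (har : sf a r = 0) (hbr : sf b r = 0) :
    Good a b (Submodule.span F {a, b, r}) := by
  refine ⟨hab, Submodule.subset_span (by simp), Submodule.subset_span (by simp), fun x hx y hy => ?_⟩
  obtain ⟨α, β, γ, rfl⟩ := mem_triple hx
  obtain ⟨α', β', γ', rfl⟩ := mem_triple hy
  rw [proj_comb hab har hbr, proj_comb hab har hbr]
  simp [br, sf_add_left, sf_add_right, sf_smul_left, sf_smul_right, sf_self, sf_comm b a, sf_comm r, har, hbr]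
  ring

lemma good_pair (hab : sf a b ≠ 0) : Good a b (Submodule.span F {a, b}) := by
  refine ⟨hab, Submodule.subset_span (by simp), Submodule.subset_span (by simp), fun x hx y hy => ?_⟩
  have h := good_three (r := (0 : Vec F)) hab (sf_zero_right a) (sf_zero_right b)
  exact h.sf_eq x (Submodule.span_mono (by intro z; simp; tauto) hx) y
    (Submodule.span_mono (by intro z; simp; tauto) hy)

lemma eq_smul_of_proj_eq_zero (hab : sf a b ≠ 0) (har : sf a r = 0) (hbr : sf b r = 0) {x : Vec F}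
    (hx : x ∈ Submodule.span F ({a, b, r} : Set (Vec F))) (h0 : proj a b x = 0) : ∃ γ : F, x = γ • r := by
  obtain ⟨α, β, γ, rfl⟩ := mem_triple hx
  rw [proj_comb hab har hbr] at h0
  have hα : α = 0 := by simpa using congrFun h0 0
  have hβ : β * sf a b = 0 := by simpa using congrFun h0 1
  exact ⟨γ, by rw [hα, (mul_eq_zero.1 hβ).resolve_right hab]; simp⟩

lemma a_mem_img (hS : Good a b S) (ha : a ∈ tvecs G) : ![1, 0] ∈ img G a b S :=
  ⟨fun h => one_ne_zero (show (1 : F) = 0 by simpa using congrFun h 0), a, ha, hS.mem_a, proj_a hS.ne⟩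

lemma b_mem_img (hS : Good a b S) (hb : b ∈ tvecs G) : ![0, sf a b] ∈ img G a b S :=
  ⟨fun h => hS.ne (show sf a b = 0 by simpa using congrFun h 1), b, hb, hS.mem_b, proj_b⟩

lemma proj_step (hS : Good a b S) {u w : Vec F} (hu : u ∈ S) (hw : w ∈ S) :
    proj a b (w + sf w u • u) = proj a b w + br (proj a b w) (proj a b u) • proj a b u := by
  rw [map_add, map_smul, hS.sf_eq w hw u hu]

lemma img_closed (H : Gen G) (hS : Good a b S) :
    ∀ p ∈ img G a b S, ∀ q ∈ img G a b S, q + br q p • p ∈ img G a b S := by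
  rintro _ ⟨-, u, hu, huS, rfl⟩ _ ⟨hq, w, hw, hwS, rfl⟩
  refine ⟨?_, _, H.step hu hw, add_mem hwS (Submodule.smul_mem _ _ huS), proj_step hS huS hwS⟩
  rw [← refl2_mulVec]
  exact act2_ne_zero _ hq

lemma mem_img {w : Vec F} (hw : w ∈ tvecs G) (hwS : w ∈ S) (h : proj a b w ≠ 0) : proj a b w ∈ img G a b S :=
  ⟨h, w, hw, hwS, rfl⟩

variable [Fintype F]

/-- Conic or plane over a subfield. -/
theorem cases (H : Gen G) (hS : Good a b S) (ha : a ∈ tvecs G) (hb : b ∈ tvecs G) :
    ((∀ p ∈ img G a b S, qab (sf a b) p = 1) ∧ ∃ p₀ ∈ img G a b S, ∃ q₀ ∈ img G a b S,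
      ∀ p ∈ img G a b S, ∀ q ∈ img G a b S, br p q ∈ Subfield.closure {br p₀ q₀}) ∨
    ∃ (K : Subfield F) (g : PSL2.SL2 F), 4 ≤ Nat.card K ∧ IsPlane K g (img G a b S) := by
  rcases pair (img_closed H hS) (fun p hp => hp.1) (a_mem_img hS ha) (b_mem_img hS hb)
    (by simpa [br] using hS.ne) with ⟨Q, hQ, h1, hv⟩ | h
  · refine Or.inl ⟨fun p hp => ?_, hv⟩
    have e : p = p 0 • ![1, 0] + (p 1 / sf a b) • ![0, sf a b] := by
      ext i; fin_cases i <;> simp [hS.ne]
    have := h1 p hp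
    rw [e, hQ.add, hQ.smul, hQ.smul, h1 _ (a_mem_img hS ha), h1 _ (b_mem_img hS hb)] at this
    simp [br, qab, hS.ne] at this ⊢
    linear_combination this
  · exact Or.inr h

lemma exists_generator' (K : Subfield F) : ∃ k ∈ K, k ≠ 0 ∧ ∀ x ∈ K, x ∈ Subfield.closure {k} := by
  obtain ⟨g, hg⟩ := IsCyclic.exists_generator (α := Kˣ)
  refine ⟨(g : K), SetLike.coe_mem _, fun h => g.ne_zero (Subtype.ext h), fun x hx => ?_⟩
  rcases eq_or_ne x 0 with rfl | h0
  · exact zero_mem _
  obtain ⟨n, hn⟩ := Subgroup.mem_zpowers_iff.1 (hg (Units.mk0 (⟨x, hx⟩ : K) fun h => h0 (congrArg Subtype.val h)))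
  have := congrArg (fun z : Kˣ => ((z : K) : F)) hn
  simp only [Units.val_zpow_eq_zpow_val, Units.val_mk0] at this
  rw [← this, show (((g : K) ^ n : K) : F) = ((g : K) : F) ^ n from map_zpow₀ K.subtype _ n]
  exact zpow_mem (Subfield.subset_closure (Set.mem_singleton _)) n

lemma plane_mem {K : Subfield F} {g : PSL2.SL2 F} (hpl : IsPlane K g (img G a b S)) {x : Fin 2 → F}
    (hx : x ≠ 0) (hxK : ∀ i, x i ∈ K) : act2 g⁻¹ x ∈ img G a b S :=
  (hpl _).2 ⟨act2_ne_zero _ hx, fun i => by rw [act2_inv']; exact hxK i⟩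

/-- The values of the form come from one of them. -/
theorem exists_values (H : Gen G) (hS : Good a b S) (ha : a ∈ tvecs G) (hb : b ∈ tvecs G) :
    ∃ u ∈ tvecs G, ∃ v ∈ tvecs G, ∀ w ∈ tvecs G, w ∈ S → ∀ z ∈ tvecs G, z ∈ S →
      sf w z ∈ Subfield.closure {sf u v} := by
  suffices ∃ p₀ ∈ img G a b S, ∃ q₀ ∈ img G a b S,
      ∀ p ∈ img G a b S, ∀ q ∈ img G a b S, br p q ∈ Subfield.closure {br p₀ q₀} by
    obtain ⟨_, ⟨-, u, hu, huS, rfl⟩, _, ⟨-, v, hv, hvS, rfl⟩, h⟩ := this
    refine ⟨u, hu, v, hv, fun w hw hwS z hz hzS => ?_⟩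
    rw [hS.sf_eq u huS v hvS, hS.sf_eq w hwS z hzS]
    by_cases hw0 : proj a b w = 0
    · simp [hw0, br]
    by_cases hz0 : proj a b z = 0
    · simp [hz0, br]
    exact h _ (mem_img hw hwS hw0) _ (mem_img hz hzS hz0)
  rcases cases H hS ha hb with ⟨-, h⟩ | ⟨K, g, -, hpl⟩
  · exact h
  obtain ⟨k, hk, hk0, hgen⟩ := exists_generator' K
  refine ⟨act2 g⁻¹ ![1, 0], plane_mem hpl (fun h => one_ne_zero (show (1 : F) = 0 by simpa using congrFun h 0))
    (by intro i; fin_cases i <;> simp [one_mem, zero_mem]),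
    act2 g⁻¹ ![0, k], plane_mem hpl (fun h => hk0 (show k = 0 by simpa using congrFun h 1))
    (by intro i; fin_cases i <;> simp [hk, zero_mem]), fun p hp q hq => ?_⟩
  rw [br_mulVec, show br ![1, 0] ![0, k] = k by simp [br]]
  refine hgen _ ?_
  rw [← br_mulVec g]
  exact add_mem (mul_mem (((hpl p).1 hp).2 0) (((hpl q).1 hq).2 1))
    (mul_mem (((hpl p).1 hp).2 1) (((hpl q).1 hq).2 0))

section Full

variable {K : Subfield F} {g : PSL2.SL2 F}

/-- The plane is one orbit of its reflections. -/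
lemma plane_induction (hK : 4 ≤ Nat.card K) (hpl : IsPlane K g (img G a b S)) (P : (Fin 2 → F) → Prop)
    {p₀ : Fin 2 → F} (hp₀ : p₀ ∈ img G a b S) (h0 : P p₀)
    (hstep : ∀ p ∈ img G a b S, ∀ s ∈ img G a b S, P p → P (p + br p s • s)) :
    ∀ q ∈ img G a b S, P q := by
  have one : ∀ p ∈ img G a b S, P p → ∀ q ∈ img G a b S, br p q ≠ 0 → P q := by
    intro p hp hP q hq hne
    obtain ⟨k, hk⟩ := (bijective_frobenius F 2).2 (br p q)⁻¹
    rw [frobenius_def] at hk
    have hc : br p q ∈ K := by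
      rw [← br_mulVec g]
      exact add_mem (mul_mem (((hpl p).1 hp).2 0) (((hpl q).1 hq).2 1))
        (mul_mem (((hpl p).1 hp).2 1) (((hpl q).1 hq).2 0))
    have hkK : k ∈ K := Mitchell.TransvTwo.mem_of_sq two_zero (by rw [hk]; exact inv_mem hc)
    have hk0 : k ≠ 0 := fun h => by
      rw [h, zero_pow two_ne_zero] at hk
      exact inv_ne_zero hne hk.symm
    have hbs : br p (p + q) = br p q := by
      simp only [br, Pi.add_apply]; linear_combination (p 0 * p 1) * (two_zero (F := F))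
    have hs : k • (p + q) ∈ img G a b S := by
      refine (hpl _).2 ⟨smul_ne_zero hk0 fun h => hne ?_, fun i => ?_⟩
      · rw [← hbs, h]; simp [br]
      · rw [act2_smul, act2_add]
        exact mul_mem hkK (add_mem (((hpl p).1 hp).2 i) (((hpl q).1 hq).2 i))
    have := hstep p hp _ hs hP
    have e : p + br p (k • (p + q)) • (k • (p + q)) = q := by
      rw [show br p (k • (p + q)) = k * br p (p + q) by simp [br]; ring, hbs, smul_smul,
        show k * br p q * k = k ^ 2 * br p q by ring, hk, inv_mul_cancel₀ hne, one_smul]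
      ext i
      simp only [Pi.add_apply]
      linear_combination p i * (two_zero (F := F))
    rwa [e] at this
  intro q hq
  obtain ⟨o, ho, h1, h2⟩ : ∃ o ∈ img G a b S, br p₀ o ≠ 0 ∧ br o q ≠ 0 := by
    have hp' := act2_ne_zero g hp₀.1
    have hq' := act2_ne_zero g hq.1
    set P₀ := act2 g p₀ with hP₀
    set Q₀ := act2 g q with hQ₀
    have hmem : ∀ x : Fin 2 → F, x ≠ 0 → (∀ i, x i ∈ K) → br P₀ x ≠ 0 → br x Q₀ ≠ 0 →
        ∃ o ∈ img G a b S, br p₀ o ≠ 0 ∧ br o q ≠ 0 := fun x hx hxK e1 e2 =>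
      ⟨act2 g⁻¹ x, plane_mem hpl hx hxK, by rwa [← br_mulVec g, act2_inv'], by rwa [← br_mulVec g, act2_inv']⟩
    have n10 : (![1, 0] : Fin 2 → F) ≠ 0 := fun h => one_ne_zero (show (1 : F) = 0 by simpa using congrFun h 0)
    have n01 : (![0, 1] : Fin 2 → F) ≠ 0 := fun h => one_ne_zero (show (1 : F) = 0 by simpa using congrFun h 1)
    have n11 : (![1, 1] : Fin 2 → F) ≠ 0 := fun h => one_ne_zero (show (1 : F) = 0 by simpa using congrFun h 0)
    have k10 : ∀ i, (![1, 0] : Fin 2 → F) i ∈ K := by intro i; fin_cases i <;> simp [one_mem, zero_mem]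
    have k01 : ∀ i, (![0, 1] : Fin 2 → F) i ∈ K := by intro i; fin_cases i <;> simp [one_mem, zero_mem]
    have k11 : ∀ i, (![1, 1] : Fin 2 → F) i ∈ K := by intro i; fin_cases i <;> simp [one_mem]
    by_cases hP1 : P₀ 1 = 0
    · have hP0 : P₀ 0 ≠ 0 := fun h => hp' (funext fun i => by fin_cases i <;> assumption)
      by_cases hQ0 : Q₀ 0 = 0
      · have hQ1 : Q₀ 1 ≠ 0 := fun h => hq' (funext fun i => by fin_cases i <;> assumption)
        exact hmem _ n11 k11 (by simp [br, hP1, hP0]) (by simp [br, hQ0, hQ1])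
      · exact hmem _ n01 k01 (by simp [br, hP0]) (by simp [br, hQ0])
    · by_cases hQ1 : Q₀ 1 = 0
      · have hQ0 : Q₀ 0 ≠ 0 := fun h => hq' (funext fun i => by fin_cases i <;> assumption)
        by_cases hP0 : P₀ 0 = 0
        · exact hmem _ n11 k11 (by simp [br, hP1, hP0]) (by simp [br, hQ1, hQ0])
        · exact hmem _ n01 k01 (by simp [br, hP0]) (by simp [br, hQ0])
      · exact hmem _ n10 k10 (by simp [br, hP1]) (by simp [br, hQ1])
  exact one o ho (one p₀ hp₀ h0 o ho h1) q hq h2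

/-- Two transvections with vectors differing in the radical. -/
lemma tg_mul_tg (δ : F) {w : Vec F} (hwr : sf r w = 0) (y : Vec F) :
    (tg w * tg (w + δ • r)).1 *ᵥ y = y + (δ * (sf y w + δ * sf y r)) • r + (δ * sf y r) • w := by
  rw [Units.val_mul, ← Matrix.mulVec_mulVec, tg_apply, tg_apply]
  ext i
  simp [sf_add_left, sf_add_right, sf_smul_left, sf_smul_right, sf_self, hwr]
  linear_combination (sf y w * w i) * (two_zero (F := F))

set_option maxHeartbeats 800000 in
/-- Lifts are unique when no two vectors are proportional. -/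
theorem full_lift_unique (H : Gen G) (NC : NoCollinear G) (hr : r ≠ 0) (har : sf a r = 0) (hbr : sf b r = 0)
    (hS : S = Submodule.span F {a, b, r}) (hab : sf a b ≠ 0) (hK : 4 ≤ Nat.card K)
    (hpl : IsPlane K g (img G a b S)) {w w' : Vec F} (hw : w ∈ tvecs G) (hwS : w ∈ S) (hw' : w' ∈ tvecs G)
    (hwS' : w' ∈ S) (h0 : proj a b w ≠ 0) (he : proj a b w = proj a b w') : w = w' := by
  subst hS
  by_contra hne
  have hG := good_three hab har hbr
  obtain ⟨δ, hδ⟩ := eq_smul_of_proj_eq_zero hab har hbr (add_mem hwS hwS') (by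
    rw [map_add, he]; exact funext fun i => add_self _)
  have hδ0 : δ ≠ 0 := fun h => hne (by
    rw [h, zero_smul] at hδ
    exact funext fun i => CharTwo.add_eq_zero.1 (congrFun hδ i))
  have hw'e : w' = w + δ • r := by rw [← hδ, ← add_assoc, vec_add_self, zero_add]
  have hrS : r ∈ Submodule.span F ({a, b, r} : Set (Vec F)) := Submodule.subset_span (by simp)
  have hrad : ∀ x ∈ Submodule.span F ({a, b, r} : Set (Vec F)), sf r x = 0 := fun x hx => by
    rw [hG.sf_eq r hrS x hx, show proj a b r = 0 by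
      have h := proj_comb hab har hbr 0 0 1
      simp at h
      rw [h]; ext i; fin_cases i <;> rfl]
    simp [br]
  -- every point has two lifts differing by `δ • r`
  have hall : ∀ p ∈ img G a b (Submodule.span F {a, b, r}), ∃ x ∈ tvecs G,
      x ∈ Submodule.span F ({a, b, r} : Set (Vec F)) ∧ proj a b x = p ∧ x + δ • r ∈ tvecs G := by
    refine plane_induction hK hpl _ (mem_img hw hwS h0) ⟨w, hw, hwS, rfl, hw'e ▸ hw'⟩ ?_
    rintro p - s ⟨-, z, hz, hzS, rfl⟩ ⟨x, hx, hxS, rfl, hx'⟩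
    refine ⟨_, H.step hz hx, add_mem hxS (Submodule.smul_mem _ _ hzS), proj_step hG hzS hxS, ?_⟩
    have := H.step hz hx'
    rw [sf_add_left, sf_smul_left, hrad z hzS, mul_zero, add_zero] at this
    rwa [add_right_comm]
  -- transvections along `r`
  have hmk : ∀ k ∈ K, k ≠ 0 → k ≠ 1 → ∃ s : F, s ^ 2 = δ ^ 2 * (1 + k) ∧ s • r ∈ tvecs G := by
    intro k hk hk0 hk1
    obtain ⟨s, hs⟩ := (bijective_frobenius F 2).2 (δ ^ 2 * (1 + k))
    rw [frobenius_def] at hs
    refine ⟨s, hs, ?_⟩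
    have m1 := plane_mem hpl (x := ![1, 0]) (fun h => one_ne_zero (show (1 : F) = 0 by simpa using congrFun h 0))
      (by intro i; fin_cases i <;> simp [one_mem, zero_mem])
    have m2 := plane_mem hpl (x := ![0, k]) (fun h => hk0 (show k = 0 by simpa using congrFun h 1))
      (by intro i; fin_cases i <;> simp [hk, zero_mem])
    have m3 := plane_mem hpl (x := ![1, k]) (fun h => one_ne_zero (show (1 : F) = 0 by simpa using congrFun h 0))
      (by intro i; fin_cases i <;> simp [hk, one_mem])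
    obtain ⟨w₁, hw₁, hS₁, e₁, hw₁'⟩ := hall _ m1
    obtain ⟨w₂, hw₂, hS₂, e₂, hw₂'⟩ := hall _ m2
    obtain ⟨w₃, hw₃, hS₃, e₃, hw₃'⟩ := hall _ m3
    have h12 : sf w₁ w₂ = k := by rw [hG.sf_eq _ hS₁ _ hS₂, e₁, e₂, br_mulVec]; simp [br]
    obtain ⟨ν, hν⟩ := eq_smul_of_proj_eq_zero hab har hbr (add_mem (add_mem hS₁ hS₂) hS₃) (by
      rw [map_add, map_add, e₁, e₂, e₃, ← act2_add, ← act2_add,
        show (![1, 0] : Fin 2 → F) + ![0, k] + ![1, k] = 0 by
          ext i; fin_cases i <;> simp [add_self]]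
      exact Matrix.mulVec_zero _)
    have hw3 : w₃ = w₁ + w₂ + ν • r := by rw [← hν, ← add_assoc, vec_add_self, zero_add]
    refine mem_tvecs (smul_ne_zero (fun h => ?_) hr) ?_
    · rw [h, zero_pow two_ne_zero] at hs
      exact (mul_ne_zero (pow_ne_zero 2 hδ0) fun h' => hk1 (CharTwo.add_eq_zero.1 h').symm) hs.symm
    have e : tg (s • r) = (tg w₃ * tg (w₃ + δ • r)) * ((tg w₂ * tg (w₂ + δ • r)) * (tg w₁ * tg (w₁ + δ • r))) :=
      Transvect.gl_ext fun y => by
        rw [Transvect.app_apply, Transvect.app_apply, tg_apply,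
          Units.val_mul (tg w₃ * tg (w₃ + δ • r)), ← Matrix.mulVec_mulVec,
          Units.val_mul (tg w₂ * tg (w₂ + δ • r)), ← Matrix.mulVec_mulVec,
          tg_mul_tg δ (hrad w₁ hS₁), tg_mul_tg δ (hrad w₂ hS₂), tg_mul_tg δ (hrad w₃ hS₃), hw3]
        ext i
        simp [sf_add_left, sf_add_right, sf_smul_left, sf_smul_right, sf_self, hrad _ hS₁, hrad _ hS₂,
          sf_comm w₁ r, sf_comm w₂ r, sf_comm w₂ w₁, h12]
        linear_combination (sf y r * r i) * hs -
          (δ * r i * (sf y w₁ + sf y w₂ + ν * sf y r + δ * sf y r + δ * k * sf y r) +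
            δ * sf y r * (w₁ i + w₂ i)) * (two_zero (F := F))
    rw [e]
    exact mul_mem (mul_mem (tg_mem hw₃) (tg_mem hw₃'))
      (mul_mem (mul_mem (tg_mem hw₂) (tg_mem hw₂')) (mul_mem (tg_mem hw₁) (tg_mem hw₁')))
  obtain ⟨k, hk, hk0, hgen⟩ := exists_generator' K
  have hk1 : k ≠ 1 := by
    rintro rfl
    have hle : K ≤ Subfield.closure {(1 : F)} := hgen
    have hbot : Subfield.closure {(1 : F)} = ⊥ := le_antisymm
      (Subfield.closure_le.2 fun x hx => by rw [hx]; exact one_mem _) bot_le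
    rw [hbot, le_bot_iff] at hle
    have h2 : Nat.card (⊥ : Subfield F) = 2 := Subfield.card_bot F 2
    rw [hle, h2] at hK
    omega
  obtain ⟨s₁, hs₁, hu₁⟩ := hmk k hk hk0 hk1
  obtain ⟨s₂, hs₂, hu₂⟩ := hmk (1 + k) (add_mem K.one_mem hk) (fun h => hk1 (CharTwo.add_eq_zero.1 h).symm)
    (fun h => hk0 (by linear_combination h))
  have hs10 : s₁ ≠ 0 := fun h => hu₁.1 (by rw [h, zero_smul])
  have := NC _ hu₁ (s₂ / s₁) (by rw [smul_smul, div_mul_cancel₀ _ hs10]; exact hu₂)
  rw [div_eq_one_iff_eq hs10] at this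
  rw [this, hs₁, ← add_assoc, add_self, zero_add] at hs₂
  have : δ ^ 2 * 1 = 0 := by linear_combination hs₂
  exact hδ0 (pow_eq_zero_iff two_ne_zero |>.1 (by rwa [mul_one] at this))

set_option maxHeartbeats 800000 in
/-- The vectors off the radical of a full three-space lie on a quadric not containing the radical. -/
theorem quad3_full (H : Gen G) (NC : NoCollinear G) (hr : r ≠ 0) (har : sf a r = 0) (hbr : sf b r = 0)
    (hS : S = Submodule.span F {a, b, r}) (hab : sf a b ≠ 0) (hK : 4 ≤ Nat.card K)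
    (hpl : IsPlane K g (img G a b S)) :
    ∃ Q, IsQuad Q ∧ Q r ≠ 0 ∧ ∀ u ∈ tvecs G, u ∈ S → proj a b u ≠ 0 → Q u = 1 := by
  classical
  subst hS
  have hG := good_three hab har hbr
  obtain ⟨k, hk, hk0, hgen⟩ := exists_generator' K
  have hk1 : k ≠ 1 := by
    rintro rfl
    have hle : K ≤ Subfield.closure {(1 : F)} := hgen
    have hbot : Subfield.closure {(1 : F)} = ⊥ := le_antisymm
      (Subfield.closure_le.2 fun x hx => by rw [hx]; exact one_mem _) bot_le
    rw [hbot, le_bot_iff] at hle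
    have h2 : Nat.card (⊥ : Subfield F) = 2 := Subfield.card_bot F 2
    rw [hle, h2] at hK
    omega
  have huniq := fun {w w' : Vec F} => full_lift_unique H NC hr har hbr rfl hab hK hpl (w := w) (w' := w')
  obtain ⟨-, x₁, hx₁, hS₁, e₁⟩ := plane_mem hpl (x := ![1, 0])
    (fun h => one_ne_zero (show (1 : F) = 0 by simpa using congrFun h 0))
    (by intro i; fin_cases i <;> simp [one_mem, zero_mem])
  obtain ⟨-, x₂, hx₂, hS₂, e₂⟩ := plane_mem hpl (x := ![0, 1])
    (fun h => one_ne_zero (show (1 : F) = 0 by simpa using congrFun h 1))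
    (by intro i; fin_cases i <;> simp [one_mem, zero_mem])
  obtain ⟨-, x₃, hx₃, hS₃, e₃⟩ := plane_mem hpl (x := ![k, 0])
    (fun h => hk0 (show k = 0 by simpa using congrFun h 0))
    (by intro i; fin_cases i <;> simp [hk, zero_mem])
  -- a quadratic map through the three lifts
  have hi₂ : x₂ ∉ Submodule.span F {x₁} := fun h => by
    obtain ⟨c, hc⟩ := Submodule.mem_span_singleton.1 h
    have := congrArg (proj a b) hc
    rw [map_smul, e₁, e₂, ← act2_smul] at this
    have := congrFun (congrArg (act2 g) this) 1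
    simp [act2_inv'] at this
  have hi₃ : x₃ ∉ Submodule.span F ({x₁, x₂} : Set (Vec F)) := fun h => by
    obtain ⟨c, d, hcd⟩ := Submodule.mem_span_pair.1 h
    have := congrArg (proj a b) hcd
    rw [map_add, map_smul, map_smul, e₁, e₂, e₃, ← act2_smul, ← act2_smul, ← act2_add] at this
    have h' := congrArg (act2 g) this
    rw [act2_inv', act2_inv'] at h'
    have hc : c = k := by simpa using congrFun h' 0
    have hd : d = 0 := by simpa using congrFun h' 1
    rw [hc, hd, zero_smul, add_zero] at hcd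
    exact hk1 (NC x₁ hx₁ k (hcd ▸ hx₃))
  obtain ⟨Q₁, hQ₁, -, h11⟩ := exists_quad_step isQuad_quad₀ ⊥ (z := x₁) (by simpa using hx₁.1) 1
  obtain ⟨Q₂, hQ₂, h21, h22⟩ := exists_quad_step hQ₁ _ hi₂ 1
  obtain ⟨Q, hQ, h31, h33⟩ := exists_quad_step hQ₂ _ hi₃ 1
  have q₁ : Q x₁ = 1 := by
    rw [h31 x₁ (Submodule.subset_span (by simp)), h21 x₁ (Submodule.mem_span_singleton_self _), h11]
  have q₂ : Q x₂ = 1 := by rw [h31 x₂ (Submodule.subset_span (by simp)), h22]
  refine ⟨Q, hQ, ?_, ?_⟩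
  · intro hQr
    have hm : x₃ + k • x₁ ∈ Submodule.span F ({a, b, r} : Set (Vec F)) :=
      add_mem hS₃ (Submodule.smul_mem _ _ hS₁)
    obtain ⟨ν, hν⟩ := eq_smul_of_proj_eq_zero hab har hbr hm (by
      rw [map_add, map_smul, e₁, e₃, ← act2_smul, ← act2_add,
        show (![k, 0] : Fin 2 → F) + k • ![1, 0] = 0 by ext i; fin_cases i <;> simp [add_self]]
      exact Matrix.mulVec_zero _)
    have := congrArg Q hν
    rw [hQ.add, hQ.smul, hQ.smul, h33, q₁, hQr, mul_zero, mul_one, sf_smul_right,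
      hG.sf_eq _ hS₃ _ hS₁, e₁, e₃, br_mulVec] at this
    simp [br] at this
    exact hk1 ((sq_inj (x := (1 : F)) (y := k) (by rw [one_pow]; exact CharTwo.add_eq_zero.1 this)).symm)
  -- the points whose lifts lie on the quadric
  let D : Set (Fin 2 → F) := {p | act2 g⁻¹ p ∈ img G a b (Submodule.span F {a, b, r}) ∧
    ∀ u ∈ tvecs G, u ∈ Submodule.span F ({a, b, r} : Set (Vec F)) → proj a b u = act2 g⁻¹ p → Q u = 1}
  have hin : ∀ {x : Vec F} {p : Fin 2 → F}, x ∈ tvecs G → x ∈ Submodule.span F ({a, b, r} : Set (Vec F)) →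
      proj a b x = act2 g⁻¹ p → p ≠ 0 → Q x = 1 → p ∈ D := by
    intro x p hx hxS e hp hq
    refine ⟨⟨act2_ne_zero _ hp, x, hx, hxS, e⟩, fun u hu huS e' => ?_⟩
    rwa [huniq hu huS hx hxS (e' ▸ act2_ne_zero _ hp) (e'.trans e.symm)]
  have hDcl : ∀ p ∈ D, ∀ q ∈ D, q + br q p • p ∈ D := by
    rintro p ⟨⟨-, z, hz, hzS, ez⟩, hp1⟩ q ⟨⟨hq0, x, hx, hxS, ex⟩, hq1⟩
    refine hin (H.step hz hx) (add_mem hxS (Submodule.smul_mem _ _ hzS)) ?_ ?_ ?_
    · rw [proj_step hG hzS hxS, ex, ez, br_mulVec, act2_add, act2_smul]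
    · rw [← refl2_mulVec]
      exact act2_ne_zero _ fun h => hq0 (by rw [h, act2, Matrix.mulVec_zero])
    · rw [hQ.tg_eq (hp1 z hz hzS ez)]
      exact hq1 x hx hxS ex
  have d₁ : ![1, 0] ∈ D := hin hx₁ hS₁ e₁ (fun h => one_ne_zero (show (1 : F) = 0 by simpa using congrFun h 0)) q₁
  have d₂ : ![0, 1] ∈ D := hin hx₂ hS₂ e₂ (fun h => one_ne_zero (show (1 : F) = 0 by simpa using congrFun h 1)) q₂
  have d₃ : ![k, 0] ∈ D := hin hx₃ hS₃ e₃ (fun h => hk0 (show k = 0 by simpa using congrFun h 0)) h33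
  -- the group of `D` contains both root groups over `K`
  have hup : ∀ c : F, refl2 ![c, 0] = PSL2.upT (c ^ 2) := fun c => Subtype.ext (by simp [refl2, PSL2.upT])
  have hlo : PSL2.loT (1 : F) ∈ grp2 D := by
    rw [show PSL2.loT (1 : F) = refl2 ![0, 1] from Subtype.ext (by simp [refl2, PSL2.loT])]
    exact Subgroup.subset_closure ⟨_, d₂, rfl⟩
  have hu1 : PSL2.upT (1 : F) ∈ grp2 D := by
    have h : refl2 ![1, 0] ∈ grp2 D := Subgroup.subset_closure ⟨_, d₁, rfl⟩
    rwa [hup, one_pow] at h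
  have huk : PSL2.upT (k ^ 2) ∈ grp2 D := hup k ▸ Subgroup.subset_closure ⟨_, d₃, rfl⟩
  have huadd : ∀ {x y : F}, PSL2.upT x ∈ grp2 D → PSL2.upT y ∈ grp2 D → PSL2.upT (x + y) ∈ grp2 D :=
    fun {x y} hx hy => by
      have := (grp2 D).mul_mem hx hy
      rwa [show PSL2.upT x * PSL2.upT y = PSL2.upT (x + y) from
        ((Mitchell.TransvTwo.upHom (F := F)).map_mul (Multiplicative.ofAdd x) (Multiplicative.ofAdd y)).symm] at this
  have hup0 : PSL2.upT (0 : F) ∈ grp2 D := by
    rw [show PSL2.upT (0 : F) = 1 from (Mitchell.TransvTwo.upHom (F := F)).map_one]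
    exact one_mem _
  have hcard : 4 ≤ Nat.card {c : F // PSL2.upT c ∈ grp2 D} := by
    have hne0 : k ^ 2 ≠ 0 := pow_ne_zero 2 hk0
    have hne1 : k ^ 2 ≠ 1 := fun h => hk1 (sq_inj (by rw [h, one_pow]))
    let S4 : Finset F := {0, 1, k ^ 2, 1 + k ^ 2}
    have hc : S4.card = 4 := by
      rw [Finset.card_insert_of_notMem, Finset.card_insert_of_notMem, Finset.card_insert_of_notMem,
        Finset.card_singleton]
      · rw [Finset.mem_singleton]; exact fun h => one_ne_zero (left_eq_add.1 (h.trans (add_comm _ _)))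
      · simp only [Finset.mem_insert, Finset.mem_singleton, not_or]
        exact ⟨hne1.symm, fun h => hne0 (left_eq_add.1 h)⟩
      · simp only [Finset.mem_insert, Finset.mem_singleton, not_or]
        exact ⟨zero_ne_one, hne0.symm, fun h => hne1 (CharTwo.add_eq_zero.1 h.symm).symm⟩
    rw [← hc, ← Nat.card_eq_finsetCard S4]
    refine Nat.card_le_card_of_injective (fun c => (⟨c.1, ?_⟩ : {c : F // PSL2.upT c ∈ grp2 D}))
      fun c d h => Subtype.ext (congrArg (fun e : {c : F // PSL2.upT c ∈ grp2 D} => e.1) h)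
    have := c.2
    simp only [S4, Finset.mem_insert, Finset.mem_singleton] at this
    rcases this with e | e | e | e <;> rw [e]
    exacts [hup0, hu1, huk, huadd hu1 huk]
  obtain ⟨R, hRu, hRl⟩ := Mitchell.TransvTwo.sl_two two_zero (grp2 D) hcard hlo
  have hKR : ∀ x ∈ K, x ∈ R := fun x hx => (Subfield.closure_le.2 (fun y hy => by
    rw [hy]; exact Mitchell.TransvTwo.mem_of_sq two_zero ((hRu _).1 huk))) (hgen x hx)
  -- every point of the plane
  have hbig : ∀ p : Fin 2 → F, (∀ i, p i ∈ K) → p 1 ≠ 0 → p ∈ D := by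
    intro p hp hp1
    have hg : PSL2.upT ((p 0 + 1) / p 1) * PSL2.loT (p 1) ∈ grp2 D :=
      mul_mem ((hRu _).2 (hKR _ (div_mem (add_mem (hp 0) K.one_mem) (hp 1)))) ((hRl _).2 (hKR _ (hp 1)))
    have e : act2 (PSL2.upT ((p 0 + 1) / p 1) * PSL2.loT (p 1)) ![1, 0] = p := by
      rw [act2_mul]
      ext i
      simp only [act2_apply]
      fin_cases i <;> simp [PSL2.upT, PSL2.loT, hp1]
      linear_combination (two_zero (F := F))
    exact e ▸ (mem_iff_of_mem_grp2 hDcl hg ![1, 0]).2 d₁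
  have hall : ∀ p : Fin 2 → F, p ≠ 0 → (∀ i, p i ∈ K) → p ∈ D := by
    intro p hp0 hp
    by_cases hp1 : p 1 = 0
    · refine (mem_iff_of_mem_grp2 hDcl hlo p).1 (hbig _ (fun i => ?_) ?_)
      · rw [act2_apply]; fin_cases i <;> simp [PSL2.loT, hp 0, hp1]
      · rw [act2_apply]
        simp [PSL2.loT, hp1]
        exact fun h => hp0 (funext fun i => by fin_cases i <;> assumption)
    · exact hbig p hp hp1
  intro u hu huS hu0
  have hp := (hpl _).1 (mem_img hu huS hu0)
  exact (hall _ (act2_ne_zero _ hu0) hp.2).2 u hu huS (by rw [act2_inv])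

end Full

/-- The vectors off the radical of a three-space lie on one quadric. -/
theorem quad3 (H : Gen G) (NC : NoCollinear G) (hr : r ≠ 0) (har : sf a r = 0) (hbr : sf b r = 0)
    (hab : sf a b ≠ 0) (ha : a ∈ tvecs G) (hb : b ∈ tvecs G) :
    ∃ Q, IsQuad Q ∧
      ∀ u ∈ tvecs G, u ∈ Submodule.span F ({a, b, r} : Set (Vec F)) → proj a b u ≠ 0 → Q u = 1 := by
  rcases cases H (good_three hab har hbr) ha hb with ⟨hc, -⟩ | ⟨K, g, hK, hpl⟩
  swap
  · obtain ⟨Q, hQ, -, h⟩ := quad3_full H NC hr har hbr rfl hab hK hpl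
    exact ⟨Q, hQ, h⟩
  have hia : a ∉ (⊥ : Submodule F (Vec F)) := by simpa using ha.1
  have hib : b ∉ Submodule.span F {a} := fun h => by
    obtain ⟨c, rfl⟩ := Submodule.mem_span_singleton.1 h
    exact hab (by rw [sf_smul_right, sf_self, mul_zero])
  have hir : r ∉ Submodule.span F ({a, b} : Set (Vec F)) := fun h => by
    obtain ⟨c, d, rfl⟩ := Submodule.mem_span_pair.1 h
    have h1 : d * sf a b = 0 := by rw [← har]; simp [sf_add_right, sf_smul_right, sf_self]
    have h2 : c * sf a b = 0 := by rw [← hbr]; simp [sf_add_right, sf_smul_right, sf_self, sf_comm b a]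
    rw [(mul_eq_zero.1 h1).resolve_right hab, (mul_eq_zero.1 h2).resolve_right hab] at hr
    simp at hr
  obtain ⟨Q₁, hQ₁, -, h11⟩ := exists_quad_step isQuad_quad₀ ⊥ hia 1
  obtain ⟨Q₂, hQ₂, h21, h22⟩ := exists_quad_step hQ₁ _ hib 1
  obtain ⟨Q, hQ, h31, h33⟩ := exists_quad_step hQ₂ _ hir 0
  refine ⟨Q, hQ, fun u hu huS h0 => ?_⟩
  have h1 := hc _ (mem_img hu huS h0)
  obtain ⟨α, β, γ, rfl⟩ := mem_triple huS
  rw [proj_comb hab har hbr] at h1
  have qa : Q a = 1 := by
    rw [h31 a (Submodule.subset_span (by simp)), h21 a (Submodule.mem_span_singleton_self _), h11]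
  have qb : Q b = 1 := by rw [h31 b (Submodule.subset_span (by simp)), h22]
  rw [hQ.add, hQ.add, hQ.smul, hQ.smul, hQ.smul, qa, qb, h33]
  simp only [qab, Matrix.cons_val_zero, Matrix.cons_val_one] at h1
  rw [mul_pow, mul_div_cancel_right₀ _ (pow_ne_zero 2 hab)] at h1
  simp [sf_add_left, sf_smul_left, sf_smul_right, har, hbr]
  linear_combination h1

end Cfsg.Agent.SpFourRes.Transv
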